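import Groth.Agent.DRingKProj.Derived
import Groth.Agent.PCExt.Basic
import Mathlib.Algebra.Homology.DerivedCategory.HomologySequence

/-!
# Pseudo-coherence: the basic morphism class and base change
-/

universe u

open CategoryTheory CategoryTheory.Limits CategoryTheory.Pretriangulated

namespace Groth.Agent.DRingKProj

attribute [local instance] HasDerivedCategory.standard

section Ring

variable {A : Type u} [Ring A]

/-- Homology iso above `m` and epi in degree `m`. -/
def IsoAbove (m : ℤ) {X Y : DerivedCategory (ModuleCat.{u} A)} (f : X ⟶ Y) : Prop :=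
  (∀ i : ℤ, m < i → IsIso ((DerivedCategory.homologyFunctor (ModuleCat.{u} A) i).map f)) ∧
    Epi ((DerivedCategory.homologyFunctor (ModuleCat.{u} A) m).map f)

lemma IsoAbove.comp {m : ℤ} {X Y Z : DerivedCategory (ModuleCat.{u} A)} {f : X ⟶ Y} {g : Y ⟶ Z}
    (hf : IsoAbove m f) (hg : IsoAbove m g) : IsoAbove m (f ≫ g) := by
  refine ⟨fun i hi => ?_, ?_⟩
  · haveI := hf.1 i hi
    haveI := hg.1 i hi
    rw [Functor.map_comp]
    infer_instance
  · haveI := hf.2
    haveI := hg.2
    rw [Functor.map_comp]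
    infer_instance

lemma IsoAbove.of_isIso (m : ℤ) {X Y : DerivedCategory (ModuleCat.{u} A)} (f : X ⟶ Y) [IsIso f] :
    IsoAbove m f :=
  ⟨fun _ _ => inferInstance, inferInstance⟩

lemma IsoAbove.mono_degree {m m' : ℤ} (h : m ≤ m') {X Y : DerivedCategory (ModuleCat.{u} A)}
    {f : X ⟶ Y} (hf : IsoAbove m f) : IsoAbove m' f := by
  refine ⟨fun i hi => hf.1 i (lt_of_le_of_lt h hi), ?_⟩
  rcases h.eq_or_lt with rfl | h
  · exact hf.2
  · haveI := hf.1 m' h
    infer_instance

/-- Homology vanishing in degrees `≥ m`. -/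
def VanishGE (m : ℤ) (X : DerivedCategory (ModuleCat.{u} A)) : Prop :=
  ∀ i : ℤ, m ≤ i → IsZero ((DerivedCategory.homologyFunctor (ModuleCat.{u} A) i).obj X)

open DerivedCategory.HomologySequence in
theorem isoAbove_mor₁_iff (T : Triangle (DerivedCategory (ModuleCat.{u} A))) (hT : T ∈ distTriang _)
    (m : ℤ) : IsoAbove m T.mor₁ ↔ VanishGE m T.obj₃ := by
  constructor
  · intro h i hi
    have he : Epi ((DerivedCategory.homologyFunctor (ModuleCat.{u} A) i).map T.mor₁) :=
      (h.mono_degree hi).2
    haveI := h.1 (i + 1) (by omega)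
    have h2 := (epi_homologyMap_mor₁_iff T hT i).1 he
    have hδ := (mono_homologyMap_mor₁_iff T hT i (i + 1) rfl).1 inferInstance
    haveI := (epi_homologyMap_mor₂_iff T hT i (i + 1) rfl).2 hδ
    exact IsZero.of_epi_eq_zero _ h2
  · intro h
    refine ⟨fun i hi => ?_, (epi_homologyMap_mor₁_iff T hT m).2 ((h m le_rfl).eq_of_tgt _ _)⟩
    haveI : Epi ((DerivedCategory.homologyFunctor (ModuleCat.{u} A) i).map T.mor₁) :=
      (epi_homologyMap_mor₁_iff T hT i).2 ((h i hi.le).eq_of_tgt _ _)
    haveI : Mono ((DerivedCategory.homologyFunctor (ModuleCat.{u} A) i).map T.mor₁) :=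
      (mono_homologyMap_mor₁_iff T hT (i - 1) i (by omega)).2 ((h (i - 1) (by omega)).eq_of_src _ _)
    exact isIso_of_mono_of_epi _

lemma vanishGE_Q_iff (m : ℤ) (K : CochainComplex (ModuleCat.{u} A) ℤ) :
    VanishGE m (DerivedCategory.Q.obj K) ↔ ∀ i, m ≤ i → K.ExactAt i := by
  refine forall₂_congr fun i _ => ?_
  rw [HomologicalComplex.exactAt_iff_isZero_homology]
  exact Iso.isZero_iff ((DerivedCategory.homologyFunctorFactors _ i).app K)

theorem isoAbove_Q_map_iff (m : ℤ) {K L : CochainComplex (ModuleCat.{u} A) ℤ} (f : K ⟶ L) :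
    IsoAbove m (DerivedCategory.Q.map f) ↔
      ∀ i, m ≤ i → (CochainComplex.mappingCone f).ExactAt i :=
  (isoAbove_mor₁_iff _ (DerivedCategory.mappingCone_triangle_distinguished f) m).trans
    (vanishGE_Q_iff m _)

lemma isKProjective_mappingCone {K L : CochainComplex (ModuleCat.{u} A) ℤ} [K.IsKProjective]
    [L.IsKProjective] (f : K ⟶ L) : (CochainComplex.mappingCone f).IsKProjective := by
  rw [CochainComplex.isKProjective_iff_leftOrthogonal]
  exact (HomotopyCategory.subcategoryAcyclic (ModuleCat.{u} A)).leftOrthogonal.ext_of_isTriangulatedClosed₃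
    _ (HomotopyCategory.mappingCone_triangleh_distinguished f)
    (CochainComplex.IsKProjective.leftOrthogonal K) (CochainComplex.IsKProjective.leftOrthogonal L)

variable {B : Type u} [Ring B] (G : ModuleCat.{u} A ⥤ ModuleCat.{u} B) [G.Additive]

/-- A K-projective complex exact in degrees `≥ m` stays so after applying an additive functor. -/
theorem exactAt_map_of_isKProjective (m : ℤ) (C : CochainComplex (ModuleCat.{u} A) ℤ) [C.IsKProjective]
    (hC : ∀ i, m ≤ i → C.ExactAt i) (i : ℤ) (hi : m ≤ i) :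
    ((G.mapHomologicalComplex (ComplexShape.up ℤ)).obj C).ExactAt i := by
  obtain ⟨Q', π, hQ, hπ, -, h0⟩ := exists_resolution_of_exactAt (K := C) (S := fun n => n < m)
    (fun n hn => hC n (by omega)) (fun n hn => by omega)
  haveI := hQ
  have he := (CochainComplex.IsKProjective.quasiIso_iff π).1 hπ
  obtain ⟨e, -⟩ := he
  rw [HomologicalComplex.exactAt_iff_isZero_homology]
  refine IsZero.of_iso ?_ ((G.mapHomotopyEquiv e).toHomologyIso i).symm
  rw [← HomologicalComplex.exactAt_iff_isZero_homology]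
  exact ShortComplex.exact_of_isZero_X₂ _ (G.map_isZero (h0 i (by omega)))

theorem isoAbove_map (m : ℤ) {E P : CochainComplex (ModuleCat.{u} A) ℤ} [E.IsKProjective]
    [P.IsKProjective] (f : E ⟶ P) (hf : IsoAbove m (DerivedCategory.Q.map f)) :
    IsoAbove m (DerivedCategory.Q.map ((G.mapHomologicalComplex (ComplexShape.up ℤ)).map f)) := by
  rw [isoAbove_Q_map_iff] at hf ⊢
  haveI := isKProjective_mappingCone f
  intro i hi
  exact (exactAt_map_of_isKProjective G m _ hf i hi).of_iso
    (CochainComplex.mappingCone.mapHomologicalComplexIso f G)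

end Ring

section CommRing

variable {A : Type u} [CommRing A]

/-- Every object of `D(A)` is represented by a K-projective complex. -/
theorem exists_isKProjective_iso (K : Dual.D A) :
    ∃ (P : DRing.Cx A), P.IsKProjective ∧ (∀ n, Module.Free A (P.X n)) ∧
      Nonempty (DRing.toD P ≅ K) := by
  obtain ⟨P, π, hP, hπ, hfree⟩ := exists_resolution (DerivedCategory.Q.objPreimage K)
  haveI := hπ
  exact ⟨P, hP, hfree, ⟨asIso (DerivedCategory.Q.map π) ≪≫ DerivedCategory.Q.objObjPreimageIso K⟩⟩

lemma isKProjective_of_vanishesAbove {E : DRing.Cx A} {b : ℤ} (hb : DRing.VanishesAbove E b)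
    (hfree : DRing.TermwiseFiniteFree E) : E.IsKProjective :=
  PCExt.isKProjective_of_free b hb hfree

lemma vanishesAbove_of_vanishesOutside {E : DRing.Cx A} {a b : ℤ} (h : DRing.VanishesOutside E a b) :
    DRing.VanishesAbove E b :=
  fun i hi => h i (Or.inr hi)

lemma termwiseFiniteFree_map_extendScalars {B : Type u} [CommRing B] (φ : A →+* B) {E : DRing.Cx A}
    (hE : DRing.TermwiseFiniteFree E) :
    DRing.TermwiseFiniteFree
      (((ModuleCat.extendScalars.{u, u, u} φ).mapHomologicalComplex (ComplexShape.up ℤ)).obj E) := by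
  intro i
  letI := φ.toAlgebra
  haveI := (hE i).1
  haveI := (hE i).2
  exact ⟨inferInstanceAs (Module.Finite B (TensorProduct A B (E.X i))),
    inferInstanceAs (Module.Free B (TensorProduct A B (E.X i)))⟩

/-- Derived base change preserves pseudo-coherence. -/
theorem isPseudoCoherent_lBaseChange {B : Type u} [CommRing B] (φ : A →+* B)
    [DRing.HasLBaseChange φ] (K : Dual.D A) (m : ℤ) (hK : DRing.IsPseudoCoherent A m K) :
    DRing.IsPseudoCoherent B m ((DRing.LBaseChange φ).obj K) := by
  obtain ⟨E, a, b, α, hab, hfree, hα⟩ := hK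
  obtain ⟨P, hP, -, ⟨e⟩⟩ := exists_isKProjective_iso K
  haveI := hP
  haveI := isKProjective_of_vanishesAbove (vanishesAbove_of_vanishesOutside hab) hfree
  obtain ⟨g, hg⟩ := PCExt.Q_map_surjective_of_isKProjective E P (α ≫ e.inv)
  have hg' : IsoAbove m (DerivedCategory.Q.map g) := by
    rw [show DerivedCategory.Q.map g = α ≫ e.inv from hg]
    exact IsoAbove.comp hα (IsoAbove.of_isIso m e.inv)
  let G := ModuleCat.extendScalars.{u, u, u} φ
  refine ⟨(G.mapHomologicalComplex (ComplexShape.up ℤ)).obj E, a, b,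
    DerivedCategory.Q.map ((G.mapHomologicalComplex (ComplexShape.up ℤ)).map g) ≫
      ((lBaseChangeValueIso φ P).inv ≫ (DRing.LBaseChange φ).map e.hom),
    fun i hi => G.map_isZero (hab i hi), termwiseFiniteFree_map_extendScalars φ hfree, ?_⟩
  exact IsoAbove.comp (isoAbove_map G m g hg') (IsoAbove.of_isIso m _)

end CommRing

end Groth.Agent.DRingKProj
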