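import Groth.Agent.DRingKProj.PseudoCoh
import Groth.Agent.FlatComplex.Elementwise
import Mathlib.Algebra.Category.ModuleCat.Biproducts

/-!
# Brutal truncations of finite free complexes, cones
-/

universe u

open CategoryTheory CategoryTheory.Limits

namespace Groth.Agent.DRingKProj

attribute [local instance] HasDerivedCategory.standard

variable {A : Type u} [CommRing A] (E : DRing.Cx A) (n : ℤ)

/-- The terms of the brutal truncation. -/
noncomputable def truncSub (i : ℤ) : Submodule A (E.X i) := if n ≤ i then ⊤ else ⊥

lemma truncSub_of_le {i : ℤ} (h : n ≤ i) : truncSub E n i = ⊤ := if_pos h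

lemma truncSub_of_lt {i : ℤ} (h : i < n) : truncSub E n i = ⊥ := if_neg (not_le.2 h)

lemma d_mem_truncSub (i j : ℤ) (x : E.X i) (hx : x ∈ truncSub E n i) :
    E.d i j x ∈ truncSub E n j := by
  by_cases hj : n ≤ j
  · rw [truncSub_of_le E n hj]
    exact Submodule.mem_top
  · rw [truncSub_of_lt E n (not_le.1 hj)]
    by_cases hij : i + 1 = j
    · rw [truncSub_of_lt E n (by omega), Submodule.mem_bot] at hx
      rw [hx, map_zero]
      exact Submodule.zero_mem _
    · rw [E.shape i j hij]
      exact Submodule.zero_mem _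

/-- The brutal truncation `σ_{≥ n}`. -/
noncomputable def trunc : DRing.Cx A where
  X i := ModuleCat.of A (truncSub E n i)
  d i j := ModuleCat.ofHom ((E.d i j).hom.restrict (d_mem_truncSub E n i j))
  shape i j h := ModuleCat.hom_ext (LinearMap.ext fun x => Subtype.ext
    (congrArg (fun t => t.hom x.1) (E.shape i j h)))
  d_comp_d' i j k _ _ := ModuleCat.hom_ext (LinearMap.ext fun x => Subtype.ext
    (congrArg (fun t => t.hom x.1) (E.d_comp_d i j k)))

/-- The inclusion of the brutal truncation. -/
noncomputable def truncι : trunc E n ⟶ E where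
  f i := ModuleCat.ofHom (truncSub E n i).subtype
  comm' _ _ _ := rfl

lemma isZero_trunc_X {i : ℤ} (h : i < n) : IsZero ((trunc E n).X i) := by
  haveI : Subsingleton (truncSub E n i) := by
    rw [truncSub_of_lt E n h]
    infer_instance
  exact ModuleCat.isZero_of_subsingleton (ModuleCat.of A (truncSub E n i))

lemma isZero_trunc_X_of_isZero {i : ℤ} (h : IsZero (E.X i)) : IsZero ((trunc E n).X i) := by
  haveI := ModuleCat.subsingleton_of_isZero h
  exact ModuleCat.isZero_of_subsingleton (ModuleCat.of A (truncSub E n i))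

lemma trunc_finiteFree (hE : DRing.TermwiseFiniteFree E) : DRing.TermwiseFiniteFree (trunc E n) := by
  intro i
  by_cases h : n ≤ i
  · haveI := (hE i).1
    haveI := (hE i).2
    let e := (LinearEquiv.ofEq _ _ (truncSub_of_le E n h)).trans Submodule.topEquiv
    exact ⟨Module.Finite.equiv e.symm, Module.Free.of_equiv e.symm⟩
  · haveI : Subsingleton (truncSub E n i) := by
      rw [truncSub_of_lt E n (not_le.1 h)]
      infer_instance
    exact ⟨inferInstanceAs (Module.Finite A (truncSub E n i)),
      inferInstanceAs (Module.Free A (truncSub E n i))⟩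

lemma trunc_vanishesOutside {b : ℤ} (hb : DRing.VanishesAbove E b) :
    DRing.VanishesOutside (trunc E n) n b := by
  rintro i (h | h)
  · exact isZero_trunc_X E n h
  · exact isZero_trunc_X_of_isZero E n (hb i h)

lemma isoAbove_Q_map_iff_homologyMap {K L : DRing.Cx A} (m : ℤ) (f : K ⟶ L) :
    IsoAbove m (DerivedCategory.Q.map f) ↔
      (∀ i, m < i → IsIso (HomologicalComplex.homologyMap f i)) ∧
        Epi (HomologicalComplex.homologyMap f m) := by
  have e : ∀ i, Arrow.mk ((DerivedCategory.homologyFunctor (ModuleCat.{u} A) i).map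
      (DerivedCategory.Q.map f)) ≅ Arrow.mk (HomologicalComplex.homologyMap f i) := fun i =>
    Arrow.isoMk' _ _ ((DerivedCategory.homologyFunctorFactors _ i).app K)
      ((DerivedCategory.homologyFunctorFactors _ i).app L)
      (DerivedCategory.homologyFunctorFactors_hom_naturality f i).symm
  exact and_congr (forall₂_congr fun i _ => (MorphismProperty.isomorphisms _).arrow_iso_iff (e i))
    ((MorphismProperty.epimorphisms _).arrow_mk_iso_iff (e m))

theorem isoAbove_truncι : IsoAbove n (DerivedCategory.Q.map (truncι E n)) := by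
  have key : ∀ i, n ≤ i → Function.Surjective (HomologicalComplex.homologyMap (truncι E n) i) ∧
      (n < i → Function.Injective (HomologicalComplex.homologyMap (truncι E n) i)) := by
    intro i hi
    constructor
    · refine (FlatComplex.homologyMap_surjective_iff
        ((HomologicalComplex.shortComplexFunctor _ _ i).map (truncι E n))).2 fun z hz => ?_
      change E.X i at z
      refine ⟨(⟨z, by rw [truncSub_of_le E n hi]; trivial⟩ : truncSub E n i), Subtype.ext hz, 0, ?_⟩
      rw [map_zero]
      exact sub_self z
    · intro hi'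
      refine (FlatComplex.homologyMap_injective_iff
        ((HomologicalComplex.shortComplexFunctor _ _ i).map (truncι E n))).2 fun x hx hw => ?_
      obtain ⟨w, hw⟩ := hw
      change E.X ((ComplexShape.up ℤ).prev i) at w
      refine ⟨(⟨w, ?_⟩ : truncSub E n _), Subtype.ext hw⟩
      rw [truncSub_of_le E n (by simp; omega)]
      trivial
  rw [isoAbove_Q_map_iff_homologyMap]
  refine ⟨fun i hi => ?_, (ModuleCat.epi_iff_surjective _).2 (key n le_rfl).1⟩
  exact (ConcreteCategory.isIso_iff_bijective _).2 ⟨(key i hi.le).2 hi, (key i hi.le).1⟩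

variable {E}

lemma mappingCone_finiteFree {F : DRing.Cx A} (f : E ⟶ F) (hE : DRing.TermwiseFiniteFree E)
    (hF : DRing.TermwiseFiniteFree F) : DRing.TermwiseFiniteFree (CochainComplex.mappingCone f) := by
  intro i
  haveI := (hE (i + 1)).1
  haveI := (hE (i + 1)).2
  haveI := (hF i).1
  haveI := (hF i).2
  let e := (HomologicalComplex.homotopyCofiber.XIsoBiprod f i (i + 1) rfl ≪≫
    ModuleCat.biprodIsoProd (E.X (i + 1)) (F.X i)).toLinearEquiv
  exact ⟨Module.Finite.equiv e.symm, Module.Free.of_equiv e.symm⟩

lemma mappingCone_vanishesOutside {F : DRing.Cx A} (f : E ⟶ F) {a b : ℤ}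
    (hE : DRing.VanishesOutside E (a + 1) (b + 1)) (hF : DRing.VanishesOutside F a b) :
    DRing.VanishesOutside (CochainComplex.mappingCone f) a b := by
  intro i hi
  refine IsZero.of_iso ?_ (HomologicalComplex.homotopyCofiber.XIsoBiprod f i (i + 1) rfl)
  rw [biprod_isZero_iff]
  exact ⟨hE _ (by omega), hF _ hi⟩

lemma vanishesOutside_mono {a b a' b' : ℤ} (h : DRing.VanishesOutside E a b) (ha : a' ≤ a)
    (hb : b ≤ b') : DRing.VanishesOutside E a' b' :=
  fun i hi => h i (by omega)

end Groth.Agent.DRingKProj
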