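import Mathlib.Algebra.Category.ModuleCat.Projective
import Mathlib.Algebra.Homology.DerivedCategory.KProjective
import Mathlib.LinearAlgebra.FreeModule.Basic
import Groth.Agent.FlatComplex.Elementwise

/-!
# Semi-free resolutions of complexes of modules

For a complex `K` of `R`-modules and a downward closed set `S` of degrees outside of which `K` is exact, a
quasi-isomorphism `P ⟶ K` from a K-projective complex of free modules vanishing outside `S`.
The basis of `P` is an inductive type of cells.
-/

universe u

open CategoryTheory CategoryTheory.Limits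

namespace Groth.Agent.DRingKProj

variable {R : Type u} [Ring R] (K : CochainComplex (ModuleCat.{u} R) ℤ) (S : ℤ → Prop)

/-- Cells: `cyc z` maps to the cycle `z`, `kill m r c x` maps to `x` and has boundary `∑ i, r i • c i`. -/
inductive Cell : ℤ → Type u
  | cyc {n : ℤ} (z : K.X n) : Cell n
  | kill {n : ℤ} (m : ℕ) (r : Fin m → R) (c : Fin m → Cell (n + 1)) (x : K.X n) : Cell n

variable {K}

/-- The value of a cell. -/
def val : {n : ℤ} → Cell K n → K.X n
  | _, .cyc z => z
  | _, .kill _ _ _ x => x

/-- The boundary of a cell. -/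
noncomputable def dRaw : {n : ℤ} → Cell K n → (Cell K (n + 1) →₀ R)
  | _, .cyc _ => 0
  | _, .kill _ r c _ => ∑ i, Finsupp.single (c i) (r i)

/-- Cells belonging to the resolution. -/
inductive Good : {n : ℤ} → Cell K n → Prop
  | cyc {n : ℤ} (z : K.X n) (hn : S n) (hz : K.d n (n + 1) z = 0) : Good (.cyc z)
  | kill {n : ℤ} (m : ℕ) (r : Fin m → R) (c : Fin m → Cell K (n + 1)) (x : K.X n) (hn : S n)
      (hc : ∀ i, Good (c i)) (hd : ∑ i, r i • dRaw (c i) = 0)
      (hx : K.d n (n + 1) x = ∑ i, r i • val (c i)) : Good (.kill m r c x)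

variable {S}

lemma Good.mem {n : ℤ} {c : Cell K n} (h : Good S c) : S n := by
  cases h <;> assumption

lemma Good.child {n : ℤ} {m : ℕ} {r : Fin m → R} {c : Fin m → Cell K (n + 1)} {x : K.X n}
    (h : Good S (.kill m r c x)) : ∀ i, Good S (c i) := by
  cases h
  assumption

variable (K S) in
/-- The index type of the free module in degree `n`. -/
abbrev GC (n : ℤ) : Type u := {c : Cell K n // Good S c}

/-- The boundary of a good cell. -/
noncomputable def dG : {n : ℤ} → (c : Cell K n) → Good S c → (GC K S (n + 1) →₀ R)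
  | _, .cyc _, _ => 0
  | _, .kill _ r c _, h => ∑ i, Finsupp.single ⟨c i, h.child i⟩ (r i)

lemma dG_kill {n : ℤ} {m : ℕ} {r : Fin m → R} {c : Fin m → Cell K (n + 1)} {x : K.X n}
    (h : Good S (.kill m r c x)) :
    dG (.kill m r c x) h = ∑ i, Finsupp.single ⟨c i, h.child i⟩ (r i) := rfl

/-- Forgetting goodness. -/
noncomputable def forgetG (n : ℤ) : (GC K S n →₀ R) →ₗ[R] (Cell K n →₀ R) :=
  Finsupp.lmapDomain R R Subtype.val

lemma forgetG_single {n : ℤ} (g : GC K S n) (r : R) :
    forgetG n (Finsupp.single g r) = Finsupp.single g.1 r :=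
  Finsupp.mapDomain_single

lemma forgetG_injective (n : ℤ) : Function.Injective (forgetG (K := K) (S := S) n) :=
  Finsupp.mapDomain_injective Subtype.val_injective

lemma forgetG_dG {n : ℤ} (c : Cell K n) (h : Good S c) : forgetG _ (dG c h) = dRaw c := by
  cases c with
  | cyc z => simp [dG, dRaw]
  | kill m r c x => simp [dG, dRaw, forgetG_single]

variable (K S) in
/-- The degree `n` term. -/
noncomputable abbrev X (n : ℤ) : ModuleCat.{u} R := ModuleCat.of R (GC K S n →₀ R)

variable (K S) in
/-- The differential, linearly extended. -/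
noncomputable def dMap (n : ℤ) : (GC K S n →₀ R) →ₗ[R] (GC K S (n + 1) →₀ R) :=
  Finsupp.linearCombination R fun g => dG g.1 g.2

@[simp] lemma dMap_single {n : ℤ} (g : GC K S n) (r : R) :
    dMap K S n (Finsupp.single g r) = r • dG g.1 g.2 :=
  Finsupp.linearCombination_single R r g

lemma dMap_dG {n : ℤ} (c : Cell K n) (h : Good S c) : dMap K S (n + 1) (dG c h) = 0 := by
  apply forgetG_injective
  cases h with
  | cyc z hn hz => simp [dG]
  | kill m r c x hn hc hd hx =>
    rw [map_zero, ← hd, dG_kill]
    simp [forgetG_dG]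

variable (K S) in
lemma dMap_comp (n : ℤ) : dMap K S (n + 1) ∘ₗ dMap K S n = 0 := by
  ext g
  simp [dMap_dG]

variable (K S) in
/-- The semi-free complex. -/
noncomputable def P : CochainComplex (ModuleCat.{u} R) ℤ :=
  CochainComplex.of (X K S) (fun n => ModuleCat.ofHom (dMap K S n))
    (fun n => by
      rw [← ModuleCat.ofHom_comp, dMap_comp]
      rfl)

lemma P_d (n : ℤ) : (P K S).d n (n + 1) = ModuleCat.ofHom (dMap K S n) :=
  CochainComplex.of_d (X K S) (fun n => ModuleCat.ofHom (dMap K S n)) n

variable (K S) in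
/-- The values, linearly extended. -/
noncomputable def valMap (n : ℤ) : (GC K S n →₀ R) →ₗ[R] K.X n :=
  Finsupp.linearCombination R fun g => val g.1

@[simp] lemma valMap_single {n : ℤ} (g : GC K S n) (r : R) :
    valMap K S n (Finsupp.single g r) = r • val g.1 :=
  Finsupp.linearCombination_single R r g

lemma d_val {n : ℤ} (g : GC K S n) :
    K.d n (n + 1) (val g.1) = valMap K S (n + 1) (dG g.1 g.2) := by
  obtain ⟨c, h⟩ := g
  cases h with
  | cyc z hn hz => simpa [dG, val] using hz
  | kill m r c x hn hc hd hx => simpa [dG, val] using hx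

variable (K S) in
/-- The resolution map. -/
noncomputable def φ : P K S ⟶ K where
  f n := ModuleCat.ofHom (valMap K S n)
  comm' i j hij := by
    obtain rfl : i + 1 = j := hij
    rw [P_d]
    refine ModuleCat.hom_ext (Finsupp.lhom_ext fun g r => ?_)
    show (K.d i (i + 1)) (valMap K S i (Finsupp.single g r)) =
      valMap K S (i + 1) (dMap K S i (Finsupp.single g r))
    rw [valMap_single, dMap_single, map_smul, map_smul, d_val]

lemma isZero_X_of_not {n : ℤ} (hn : ¬ S n) : IsZero ((P K S).X n) := by
  haveI : IsEmpty (GC K S n) := ⟨fun g => hn g.2.mem⟩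
  exact ModuleCat.isZero_of_subsingleton (X K S n)

lemma free_X (n : ℤ) : Module.Free R ((P K S).X n) :=
  inferInstanceAs (Module.Free R (GC K S n →₀ R))

/-- The resolution map is a quasi-isomorphism. -/
theorem quasiIso_φ (hS : ∀ n, S (n + 1) → S n) (hK : ∀ n, ¬ S n → K.ExactAt n) :
    QuasiIso (φ K S) := by
  refine ⟨fun k => ?_⟩
  obtain ⟨n, rfl⟩ : ∃ n, n + 1 = k := ⟨k - 1, by ring⟩
  rw [quasiIsoAt_iff' _ n (n + 1) (n + 1 + 1) (by simp) (by simp), ShortComplex.quasiIso_iff,
    ConcreteCategory.isIso_iff_bijective]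
  constructor
  · rw [FlatComplex.homologyMap_injective_iff]
    intro p hp hw
    obtain ⟨w, hw⟩ := hw
    change (P K S).d (n + 1) (n + 1 + 1) p = 0 at hp
    change valMap K S (n + 1) p = K.d n (n + 1) w at hw
    show ∃ q, p = (P K S).d n (n + 1) q
    rw [P_d] at hp
    change dMap K S (n + 1) p = 0 at hp
    by_cases hn : S (n + 1)
    swap
    · refine ⟨0, ?_⟩
      haveI : IsEmpty (GC K S (n + 1)) := ⟨fun g => hn g.2.mem⟩
      rw [map_zero]
      exact Subsingleton.elim (α := GC K S (n + 1) →₀ R) _ _
    change GC K S (n + 1) →₀ R at p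
    let e := p.support.equivFin.symm
    have hp' : ∑ i, Finsupp.single (e i : GC K S (n + 1)) (p (e i)) = p := by
      refine (Fintype.sum_equiv e _ (fun g => Finsupp.single g.1 (p g.1)) fun i => rfl).trans ?_
      rw [Finset.univ_eq_attach, Finset.sum_attach _ (fun g => Finsupp.single g (p g))]
      exact Finsupp.sum_single p
    have hd : ∑ i, p (e i) • dRaw (e i).1.1 = 0 := by
      have := congrArg (forgetG (K := K) (S := S) (n + 1 + 1)) hp
      rw [← hp', map_zero] at this
      simpa [forgetG_dG] using this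
    have hx : K.d n (n + 1) w = ∑ i, p (e i) • val (e i).1.1 := by
      rw [← hw]
      conv_lhs => rw [← hp']
      simp
    have g : Good S (.kill _ (fun i => p (e i)) (fun i => (e i).1.1) w) :=
      .kill _ _ _ _ (hS n hn) (fun i => (e i).1.2) hd hx
    refine ⟨Finsupp.single ⟨_, g⟩ 1, ?_⟩
    rw [P_d]
    show p = dMap K S n (Finsupp.single ⟨_, g⟩ 1)
    rw [dMap_single, one_smul]
    exact hp'.symm
  · rw [FlatComplex.homologyMap_surjective_iff]
    intro z hz
    change K.X (n + 1) at z
    change K.d (n + 1) (n + 1 + 1) z = 0 at hz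
    by_cases hn : S (n + 1)
    · refine ⟨Finsupp.single ⟨.cyc z, .cyc z hn hz⟩ 1, ?_, 0, ?_⟩
      · show (P K S).d (n + 1) (n + 1 + 1) _ = 0
        rw [P_d]
        show dMap K S (n + 1) _ = 0
        rw [dMap_single, one_smul]
        rfl
      · show (valMap K S (n + 1) (Finsupp.single _ 1) - z : K.X (n + 1)) = K.d n (n + 1) 0
        simp [val]
    · have h := hK _ hn
      rw [K.exactAt_iff' n (n + 1) (n + 1 + 1) (by simp) (by simp), ShortComplex.moduleCat_exact_iff] at h
      obtain ⟨w, hw⟩ := h z hz
      change K.X n at w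
      refine ⟨0, map_zero _, -w, ?_⟩
      show (valMap K S (n + 1) 0 - z : K.X (n + 1)) = K.d n (n + 1) (-w)
      rw [map_zero, map_neg, zero_sub]
      exact congrArg Neg.neg hw.symm

section KProjective

variable {L : CochainComplex (ModuleCat.{u} R) ℤ} (f : P K S ⟶ L)

/-- The components of `f`. -/
noncomputable def fLin (n : ℤ) : (GC K S n →₀ R) →ₗ[R] L.X n := (f.f n).hom

lemma d_fLin (n : ℤ) (p : GC K S n →₀ R) :
    L.d n (n + 1) (fLin f n p) = fLin f (n + 1) (dMap K S n p) := by
  have h := congrArg (fun t => t.hom p) (f.comm n (n + 1))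
  rw [P_d] at h
  exact h

open Classical in
/-- The map on all cells. -/
noncomputable def fCell {n : ℤ} (c : Cell K n) : L.X n :=
  if h : Good S c then fLin f n (Finsupp.single ⟨c, h⟩ 1) else 0

open Classical in
/-- The homotopy on cells. -/
noncomputable def hCell : {n : ℤ} → Cell K n → (j : ℤ) → j + 1 = n → L.X j
  | n, .cyc z, j, _ => Classical.epsilon fun a => L.d j n a = fCell f (.cyc z)
  | n, .kill m r c x, j, _ => Classical.epsilon fun a =>
      L.d j n a = fCell f (.kill m r c x) - ∑ i, r i • hCell (c i) n rfl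

/-- The homotopy evaluated on the boundary. -/
noncomputable def hdCell {n : ℤ} (c : Cell K n) : L.X n :=
  Finsupp.linearCombination R (fun x => hCell f x n rfl) (dRaw c)

lemma f_single {n : ℤ} (g : GC K S n) (r : R) :
    fLin f n (Finsupp.single g r) = r • fCell f g.1 := by
  rw [fCell, dif_pos g.2, ← map_smul]
  congr 1
  exact (Finsupp.smul_single_one g r).symm

lemma d_fCell {n : ℤ} {m : ℕ} (r : Fin m → R) (c : Fin m → Cell K (n + 1)) (x : K.X n)
    (h : Good S (.kill m r c x)) :
    L.d n (n + 1) (fCell f (.kill m r c x)) = ∑ i, r i • fCell f (c i) := by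
  rw [fCell, dif_pos h, d_fLin, dMap_single, one_smul, dG_kill, map_sum]
  exact Finset.sum_congr rfl fun i _ => f_single f _ _

lemma d_hCell (hL : L.Acyclic) {n : ℤ} (c : Cell K n) (hc : Good S c) :
    ∀ j (hj : j + 1 = n), L.d j n (hCell f c j hj) = fCell f c - hdCell f c := by
  have exact' : ∀ (j n : ℤ) (_ : j + 1 = n) (t : L.X n), L.d n (n + 1) t = 0 → ∃ a, L.d j n a = t := by
    intro j n hj t ht
    have h := hL n
    rw [L.exactAt_iff' j n (n + 1) (by simp; omega) (by simp), ShortComplex.moduleCat_exact_iff] at h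
    exact h t ht
  induction c with
  | @cyc n z =>
    intro j hj
    have hcl : ∃ a, L.d j n a = fCell f (.cyc z) := by
      refine exact' j n hj _ ?_
      rw [fCell, dif_pos hc, d_fLin, dMap_single, one_smul]
      exact map_zero _
    rw [hCell, hdCell, dRaw, map_zero, sub_zero]
    exact Classical.epsilon_spec hcl
  | @kill n m r c x ih =>
    intro j hj
    have e : hdCell f (.kill m r c x) = ∑ i, r i • hCell f (c i) n rfl := by
      simp [hdCell, dRaw]
    have hd : ∑ i, r i • dRaw (c i) = 0 := by cases hc; assumption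
    have hcl : ∃ a, L.d j n a = fCell f (.kill m r c x) - ∑ i, r i • hCell f (c i) n rfl := by
      refine exact' j n hj _ ?_
      have h0 : ∑ i, r i • hdCell f (c i) = 0 := by
        simp only [hdCell, ← map_smul, ← map_sum, hd, map_zero]
      simp only [map_sub, d_fCell f r c x hc, map_sum, map_smul, ih _ (hc.child _) n rfl, smul_sub,
        Finset.sum_sub_distrib, h0, sub_zero, sub_self]
    rw [hCell, e]
    exact Classical.epsilon_spec hcl

/-- The homotopy operator. -/
noncomputable def hHom (i j : ℤ) : (P K S).X i ⟶ L.X j :=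
  if h : j + 1 = i then
    ModuleCat.ofHom (Finsupp.linearCombination R fun g : GC K S i => hCell f g.1 j h)
  else 0

/-- The null homotopy. -/
noncomputable def homotopy (hL : L.Acyclic) : Homotopy f 0 where
  hom := hHom f
  zero i j hij := dif_neg (by simpa using hij)
  comm i := by
    obtain ⟨k, rfl⟩ : ∃ k, k + 1 = i := ⟨i - 1, by ring⟩
    rw [dNext_eq _ (show (ComplexShape.up ℤ).Rel (k + 1) (k + 1 + 1) from rfl),
      prevD_eq _ (show (ComplexShape.up ℤ).Rel k (k + 1) from rfl), HomologicalComplex.zero_f,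
      add_zero, P_d, hHom, hHom, dif_pos rfl, dif_pos rfl]
    refine ModuleCat.hom_ext (Finsupp.lhom_ext fun g r => ?_)
    show fLin f (k + 1) (Finsupp.single g r) =
      Finsupp.linearCombination R (fun g : GC K S (k + 1 + 1) => hCell f g.1 (k + 1) rfl)
          (dMap K S (k + 1) (Finsupp.single g r)) +
        L.d k (k + 1) (Finsupp.linearCombination R (fun g : GC K S (k + 1) => hCell f g.1 k rfl)
          (Finsupp.single g r))
    rw [f_single, dMap_single, map_smul, Finsupp.linearCombination_single, map_smul,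
      d_hCell f hL g.1 g.2 k rfl, ← smul_add]
    congr 1
    have e : Finsupp.linearCombination R (fun g : GC K S (k + 1 + 1) => hCell f g.1 (k + 1) rfl)
        (dG g.1 g.2) = hdCell f g.1 := by
      rw [hdCell, ← forgetG_dG g.1 g.2, forgetG, Finsupp.lmapDomain_apply,
        Finsupp.linearCombination_mapDomain]
      rfl
    rw [e, add_sub_cancel]

instance isKProjective : (P K S).IsKProjective where
  nonempty_homotopy_zero f hL := ⟨homotopy f hL⟩

end KProjective

/-- Every complex of modules receives a quasi-isomorphism from a K-projective complex of free modules,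
vanishing above `m` if the cohomology of the complex does. -/
theorem exists_resolution_of_exactAt (hK : ∀ n, ¬ S n → K.ExactAt n) (hS : ∀ n, S (n + 1) → S n) :
    ∃ (Q : CochainComplex (ModuleCat.{u} R) ℤ) (π : Q ⟶ K), Q.IsKProjective ∧ QuasiIso π ∧
      (∀ n, Module.Free R (Q.X n)) ∧ ∀ n, ¬ S n → IsZero (Q.X n) :=
  ⟨P K S, φ K S, inferInstance, quasiIso_φ hS hK, free_X, fun _ h => isZero_X_of_not h⟩

/-- Every complex of modules has a K-projective resolution. -/
theorem exists_resolution (K : CochainComplex (ModuleCat.{u} R) ℤ) :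
    ∃ (Q : CochainComplex (ModuleCat.{u} R) ℤ) (π : Q ⟶ K), Q.IsKProjective ∧ QuasiIso π ∧
      ∀ n, Module.Free R (Q.X n) :=
  ⟨P K fun _ => True, φ K _, inferInstance, quasiIso_φ (fun _ _ => trivial) (by simp), free_X⟩

end Groth.Agent.DRingKProj
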