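import Groth.Prelude.Def_DDual2
import Groth.Agent.DerCat.LeftDeriv
import Groth.Agent.DRingKProj.Semifree
import Mathlib.Algebra.Homology.DerivedCategory.Fractions

/-!
# Left derived functors on derived categories of modules

For an additive functor between module categories the total left derived functor exists and is computed by
K-projective complexes; in particular `DRing.HasLBaseChange` and `DRing.HasLTensor` hold.
-/

universe u

open CategoryTheory CategoryTheory.Limits

namespace Groth.Agent.DRingKProj

attribute [local instance] HasDerivedCategory.standard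

variable {A : Type u} [Ring A] {B : Type u} [Ring B]

variable (A) in
/-- K-projective objects of the homotopy category. -/
def KP : ObjectProperty (HomotopyCategory (ModuleCat.{u} A) (ComplexShape.up ℤ)) :=
  fun X => CochainComplex.IsKProjective X.as

lemma KP_quotient (P : CochainComplex (ModuleCat.{u} A) ℤ) [P.IsKProjective] :
    KP A ((HomotopyCategory.quotient _ _).obj P) :=
  inferInstanceAs P.IsKProjective

lemma exists_resolution_homotopy (X : HomotopyCategory (ModuleCat.{u} A) (ComplexShape.up ℤ)) :
    ∃ (Y : HomotopyCategory (ModuleCat.{u} A) (ComplexShape.up ℤ)) (s : Y ⟶ X),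
      KP A Y ∧ HomotopyCategory.quasiIso (ModuleCat.{u} A) (ComplexShape.up ℤ) s := by
  obtain ⟨Q, π, hQ, hπ, -⟩ := exists_resolution X.as
  haveI := hQ
  exact ⟨_, (HomotopyCategory.quotient _ _).map π, KP_quotient Q,
    (HomotopyCategory.quotient_map_mem_quasiIso_iff π).2 hπ⟩

lemma isIso_of_KP ⦃X Y : HomotopyCategory (ModuleCat.{u} A) (ComplexShape.up ℤ)⦄ (s : X ⟶ Y)
    (hX : KP A X) (hY : KP A Y)
    (hs : HomotopyCategory.quasiIso (ModuleCat.{u} A) (ComplexShape.up ℤ) s) : IsIso s := by
  obtain ⟨f, rfl⟩ := (HomotopyCategory.quotient _ _).map_surjective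
    (X := X.as) (Y := Y.as) s
  haveI : CochainComplex.IsKProjective X.as := hX
  haveI : CochainComplex.IsKProjective Y.as := hY
  have h := (CochainComplex.IsKProjective.quasiIso_iff f).1
    ((HomotopyCategory.quotient_map_mem_quasiIso_iff f).1 hs)
  rw [← HomotopyCategory.inverseImage_quotient_isomorphisms] at h
  exact h

variable (G : ModuleCat.{u} A ⥤ ModuleCat.{u} B) [G.Additive]

/-- The functor whose left derived functor is taken. -/
noncomputable abbrev khFun :
    HomotopyCategory (ModuleCat.{u} A) (ComplexShape.up ℤ) ⥤ DerivedCategory (ModuleCat.{u} B) :=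
  G.mapHomotopyCategory (ComplexShape.up ℤ) ⋙ DerivedCategory.Qh

lemma isIso_khFun_map ⦃X Y : HomotopyCategory (ModuleCat.{u} A) (ComplexShape.up ℤ)⦄ (s : X ⟶ Y)
    (hX : KP A X) (hY : KP A Y)
    (hs : HomotopyCategory.quasiIso (ModuleCat.{u} A) (ComplexShape.up ℤ) s) :
    IsIso ((khFun G).map s) := by
  haveI := isIso_of_KP s hX hY hs
  infer_instance

/-- The left derived functor exists. -/
theorem hasLeftDerivedFunctor :
    (khFun G).HasLeftDerivedFunctor (HomotopyCategory.quasiIso (ModuleCat.{u} A) (ComplexShape.up ℤ)) :=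
  DerCat.LeftDeriv.hasLeftDerivedFunctor _ _ (KP A) exists_resolution_homotopy (isIso_khFun_map G)

/-- The left derived functor is computed by K-projective complexes. -/
theorem isIso_counit_app
    [(khFun G).HasLeftDerivedFunctor (HomotopyCategory.quasiIso (ModuleCat.{u} A) (ComplexShape.up ℤ))]
    (P : CochainComplex (ModuleCat.{u} A) ℤ) [P.IsKProjective] :
    IsIso (((khFun G).totalLeftDerivedCounit DerivedCategory.Qh
      (HomotopyCategory.quasiIso (ModuleCat.{u} A) (ComplexShape.up ℤ))).app
      ((HomotopyCategory.quotient _ _).obj P)) :=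
  DerCat.LeftDeriv.isIso_counit_app DerivedCategory.Qh _ _ (KP A) exists_resolution_homotopy
    (isIso_khFun_map G) (KP_quotient P)

/-- The value of the left derived functor on a K-projective complex. -/
noncomputable def valueIso
    [(khFun G).HasLeftDerivedFunctor (HomotopyCategory.quasiIso (ModuleCat.{u} A) (ComplexShape.up ℤ))]
    (P : CochainComplex (ModuleCat.{u} A) ℤ) [P.IsKProjective] :
    ((khFun G).totalLeftDerived DerivedCategory.Qh
      (HomotopyCategory.quasiIso (ModuleCat.{u} A) (ComplexShape.up ℤ))).obj
        (DerivedCategory.Q.obj P) ≅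
      DerivedCategory.Q.obj ((G.mapHomologicalComplex (ComplexShape.up ℤ)).obj P) :=
  haveI := isIso_counit_app G P
  ((khFun G).totalLeftDerived DerivedCategory.Qh
      (HomotopyCategory.quasiIso (ModuleCat.{u} A) (ComplexShape.up ℤ))).mapIso
      ((DerivedCategory.quotientCompQhIso _).app P).symm ≪≫
    asIso (((khFun G).totalLeftDerivedCounit DerivedCategory.Qh
      (HomotopyCategory.quasiIso (ModuleCat.{u} A) (ComplexShape.up ℤ))).app
      ((HomotopyCategory.quotient _ _).obj P)) ≪≫
    DerivedCategory.Qh.mapIso ((G.mapHomotopyCategoryFactors (ComplexShape.up ℤ)).app P) ≪≫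
    (DerivedCategory.quotientCompQhIso _).app _

end Groth.Agent.DRingKProj

namespace Groth.Agent.DRingKProj

attribute [local instance] HasDerivedCategory.standard

theorem hasLBaseChange {A B : Type u} [CommRing A] [CommRing B] (φ : A →+* B) :
    DRing.HasLBaseChange φ :=
  hasLeftDerivedFunctor (ModuleCat.extendScalars.{u, u, u} φ)

open MonoidalCategory in
theorem hasLTensor {A : Type u} [CommRing A] (M : ModuleCat.{u} A) : DRing.HasLTensor A M :=
  hasLeftDerivedFunctor (tensorRight M)

/-- Derived base change on a K-projective complex. -/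
noncomputable def lBaseChangeValueIso {A B : Type u} [CommRing A] [CommRing B] (φ : A →+* B)
    [DRing.HasLBaseChange φ] (P : DRing.Cx A) [P.IsKProjective] :
    (DRing.LBaseChange φ).obj (DRing.toD P) ≅
      DRing.toD (((ModuleCat.extendScalars.{u, u, u} φ).mapHomologicalComplex (ComplexShape.up ℤ)).obj P) :=
  valueIso (ModuleCat.extendScalars.{u, u, u} φ) P

open MonoidalCategory in
/-- `- ⊗^L M` on a K-projective complex. -/
noncomputable def lTensorValueIso {A : Type u} [CommRing A] (M : ModuleCat.{u} A)
    [DRing.HasLTensor A M] (P : DRing.Cx A) [P.IsKProjective] :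
    (DRing.LTensor A M).obj (DRing.toD P) ≅ DRing.toD (DRing.tensorCx P M) :=
  valueIso (tensorRight M) P

end Groth.Agent.DRingKProj
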