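import Groth.Agent.DRingKProj.TopHomology

/-!
# Elements of mapping cones; generators of homology
-/

universe u

open CategoryTheory CategoryTheory.Limits CochainComplex

namespace Groth.Agent.DRingKProj

variable {A : Type u} [CommRing A] {F K : DRing.Cx A} (f : F ⟶ K)

/-- The `F`-component of an element of the cone. -/
noncomputable def cfst (i j : ℤ) (h : i + 1 = j) : (mappingCone f).X i →ₗ[A] F.X j :=
  ((mappingCone.fst f).1.v i j h).hom

/-- The `K`-component of an element of the cone. -/
noncomputable def csnd (i : ℤ) : (mappingCone f).X i →ₗ[A] K.X i :=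
  ((mappingCone.snd f).v i i (add_zero i)).hom

/-- Elements of the cone from components. -/
noncomputable def cmk (i j : ℤ) (h : i + 1 = j) (x : F.X j) (y : K.X i) : (mappingCone f).X i :=
  (mappingCone.inl f).v j i (by omega) x + (mappingCone.inr f).f i y

lemma cfst_cmk (i j : ℤ) (h : i + 1 = j) (x : F.X j) (y : K.X i) :
    cfst f i j h (cmk f i j h x y) = x := by
  have h1 := congrArg (fun t => t.hom x) (mappingCone.inl_v_fst_v f j i h)
  have h2 := congrArg (fun t => t.hom y) (mappingCone.inr_f_fst_v f i j h)
  simp only [cfst, cmk, map_add]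
  exact (congrArg₂ (· + ·) h1 h2).trans (add_zero x)

lemma csnd_cmk (i j : ℤ) (h : i + 1 = j) (x : F.X j) (y : K.X i) :
    csnd f i (cmk f i j h x y) = y := by
  have h1 := congrArg (fun t => t.hom x) (mappingCone.inl_v_snd_v f j i (by omega))
  have h2 := congrArg (fun t => t.hom y) (mappingCone.inr_f_snd_v f i)
  simp only [csnd, cmk, map_add]
  exact (congrArg₂ (· + ·) h1 h2).trans (zero_add y)

lemma cfst_d (i j k : ℤ) (hij : i + 1 = j) (hjk : j + 1 = k) (c : (mappingCone f).X i) :
    cfst f j k hjk ((mappingCone f).d i j c) = -(F.d j k (cfst f i j hij c)) :=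
  congrArg (fun t => t.hom c) (mappingCone.d_fst_v f i j k hij hjk)

lemma csnd_d (i j : ℤ) (hij : i + 1 = j) (c : (mappingCone f).X i) :
    csnd f j ((mappingCone f).d i j c) = f.f j (cfst f i j hij c) + K.d i j (csnd f i c) :=
  congrArg (fun t => t.hom c) (mappingCone.d_snd_v f i j hij)

lemma cone_ext (i j : ℤ) (h : i + 1 = j) (c : (mappingCone f).X i)
    (h1 : cfst f i j h c = 0) (h2 : csnd f i c = 0) : c = 0 := by
  have := congrArg (fun t => t.hom c) (mappingCone.id_X f i j h)
  simp only [ModuleCat.hom_add, LinearMap.add_apply, ModuleCat.hom_comp, LinearMap.comp_apply] at this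
  change (mappingCone.inl f).v j i _ (cfst f i j h c) + (mappingCone.inr f).f i (csnd f i c) = c at this
  rw [h1, h2, map_zero, map_zero, add_zero] at this
  exact this.symm

/-- A cycle of the cone. -/
lemma cone_d_eq_zero_iff (i j : ℤ) (hij : i + 1 = j) (c : (mappingCone f).X i) :
    (mappingCone f).d i j c = 0 ↔ F.d j (j + 1) (cfst f i j hij c) = 0 ∧
      f.f j (cfst f i j hij c) + K.d i j (csnd f i c) = 0 := by
  constructor
  · intro h
    constructor
    · have := cfst_d f i j (j + 1) hij rfl c
      rw [h, map_zero] at this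
      exact neg_eq_zero.1 this.symm
    · have := csnd_d f i j hij c
      rw [h, map_zero] at this
      exact this.symm
  · rintro ⟨h1, h2⟩
    refine cone_ext f j (j + 1) rfl _ ?_ ?_
    · rw [cfst_d f i j (j + 1) hij rfl c, h1, neg_zero]
    · rw [csnd_d f i j hij c, h2]

/-- Finitely many cycles generate finitely generated homology. -/
lemma exists_cycle_generators (S : ShortComplex (ModuleCat.{u} A)) [Module.Finite A S.homology] :
    ∃ s : Finset S.X₂, (∀ c ∈ s, S.g c = 0) ∧
      ∀ c, S.g c = 0 → ∃ v ∈ Submodule.span A (s : Set S.X₂), ∃ w, c - v = S.f w := by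
  classical
  haveI : Module.Finite A (LinearMap.ker S.g.hom ⧸ LinearMap.range S.moduleCatToCycles) :=
    Module.Finite.equiv S.moduleCatHomologyIso.toLinearEquiv
  obtain ⟨t, ht⟩ := (Module.Finite.fg_top :
    (⊤ : Submodule A (LinearMap.ker S.g.hom ⧸ LinearMap.range S.moduleCatToCycles)).FG)
  choose g hg using Submodule.mkQ_surjective (LinearMap.range S.moduleCatToCycles)
  refine ⟨t.image fun q => (g q).1, fun c hc => ?_, fun c hc => ?_⟩
  · obtain ⟨q, -, rfl⟩ := Finset.mem_image.1 hc
    exact (g q).2
  · have hmem : (LinearMap.range S.moduleCatToCycles).mkQ ⟨c, hc⟩ ∈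
        Submodule.map (LinearMap.range S.moduleCatToCycles).mkQ (Submodule.span A (g '' (t : Set _))) := by
      rw [Submodule.map_span, Set.image_image, Set.image_congr (fun q _ => hg q), Set.image_id', ht]
      exact Submodule.mem_top
    obtain ⟨v, hv, hvc⟩ := hmem
    obtain ⟨w, hw⟩ := (Submodule.Quotient.eq _).1 hvc.symm
    refine ⟨v.1, ?_, w, (congrArg Subtype.val hw).symm⟩
    have := Submodule.mem_map_of_mem (f := (LinearMap.ker S.g.hom).subtype) hv
    rw [Submodule.map_span, Set.image_image] at this
    simpa [Finset.coe_image] using this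

end Groth.Agent.DRingKProj
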