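import Groth.Agent.DRingKProj.Triangle
import Mathlib.Algebra.Module.FinitePresentation
import Mathlib.LinearAlgebra.Projection

/-!
# The top cohomology of a pseudo-coherent complex
-/

universe u

open CategoryTheory CategoryTheory.Limits CategoryTheory.Pretriangulated

namespace Groth.Agent.DRingKProj

attribute [local instance] HasDerivedCategory.standard

variable {A : Type u} [CommRing A]

/-- The kernel of a surjection from a finite projective module onto a projective module. -/
lemma finite_projective_ker_of_surjective {M N : Type u} [AddCommGroup M] [Module A M]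
    [AddCommGroup N] [Module A N] [Module.Finite A M] [Module.Projective A M] [Module.Projective A N]
    (f : M →ₗ[A] N) (hf : Function.Surjective f) :
    Module.Finite A (LinearMap.ker f) ∧ Module.Projective A (LinearMap.ker f) := by
  obtain ⟨s, hs⟩ := Module.projective_lifting_property f LinearMap.id hf
  let p : M →ₗ[A] LinearMap.ker f := (LinearMap.id - s ∘ₗ f).codRestrict _ fun x => by
    simp [LinearMap.mem_ker, show f (s (f x)) = f x from LinearMap.congr_fun hs (f x)]
  have hp : p ∘ₗ (LinearMap.ker f).subtype = LinearMap.id :=
    LinearMap.ext fun x => Subtype.ext (by simp [p, LinearMap.mem_ker.1 x.2])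
  exact ⟨Module.Finite.of_surjective p fun x => ⟨x, LinearMap.congr_fun hp x⟩,
    Module.Projective.of_split _ p hp⟩

lemma exists_of_exactAt {E : DRing.Cx A} {j : ℤ} (h : E.ExactAt j) (i : ℤ) (hi : i + 1 = j)
    (x : E.X j) (hx : E.d j (j + 1) x = 0) : ∃ w, E.d i j w = x := by
  rw [E.exactAt_iff' i j (j + 1) (by simp; omega) (by simp), ShortComplex.moduleCat_exact_iff] at h
  exact h x hx

/-- Cycles of a bounded above complex of finite projective modules, in degrees from which on it is
exact. -/
theorem cycles_finite_projective (E : DRing.Cx A) (b m : ℤ) (hb : DRing.VanishesAbove E b)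
    (hE : DRing.TermwiseFiniteProjective E) (hex : ∀ i, m < i → E.ExactAt i) (i : ℤ) (hi : m ≤ i) :
    Module.Finite A (LinearMap.ker (E.d i (i + 1)).hom) ∧
      Module.Projective A (LinearMap.ker (E.d i (i + 1)).hom) := by
  suffices key : ∀ (k : ℕ) (i : ℤ), m ≤ i → b + 1 ≤ i + k →
      Module.Finite A (LinearMap.ker (E.d i (i + 1)).hom) ∧
        Module.Projective A (LinearMap.ker (E.d i (i + 1)).hom) from
    key (b + 1 - i).toNat i hi (by omega)
  intro k
  induction k with
  | zero =>
    intro i hi hk
    haveI := ModuleCat.subsingleton_of_isZero (hb i (by omega))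
    exact ⟨inferInstance, inferInstance⟩
  | succ k ih =>
    intro i hi hk
    obtain ⟨h1, h2⟩ := ih (i + 1) (by omega) (by omega)
    haveI := h1
    haveI := h2
    haveI := (hE i).1
    haveI := (hE i).2
    have hmem : ∀ x, E.d i (i + 1) x ∈ LinearMap.ker (E.d (i + 1) (i + 1 + 1)).hom := fun x => by
      rw [LinearMap.mem_ker]
      show (E.d i (i + 1) ≫ E.d (i + 1) (i + 1 + 1)) x = 0
      rw [E.d_comp_d]
      rfl
    let g := (E.d i (i + 1)).hom.codRestrict _ hmem
    have hg : Function.Surjective g := fun x => by
      obtain ⟨w, hw⟩ := exists_of_exactAt (hex (i + 1) (by omega)) i rfl x.1 x.2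
      exact ⟨w, Subtype.ext hw⟩
    rw [show LinearMap.ker (E.d i (i + 1)).hom = LinearMap.ker g from
      (LinearMap.ker_codRestrict _ _ _).symm]
    exact finite_projective_ker_of_surjective g hg

lemma termwiseFiniteProjective_of_free {E : DRing.Cx A} (hE : DRing.TermwiseFiniteFree E) :
    DRing.TermwiseFiniteProjective E := fun i => by
  haveI := (hE i).2
  exact ⟨(hE i).1, Module.Projective.of_free⟩

/-- Finiteness of the top homology of a bounded above complex of finite projective modules. -/
theorem homology_finite (E : DRing.Cx A) (b m : ℤ) (hb : DRing.VanishesAbove E b)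
    (hE : DRing.TermwiseFiniteProjective E) (hex : ∀ i, m < i → E.ExactAt i) :
    Module.Finite A (E.homology m) ∧ Module.FinitePresentation A (E.homology m) := by
  let S := E.sc' (m - 1) m (m + 1)
  obtain ⟨h1, h2⟩ := cycles_finite_projective E b m hb hE hex m le_rfl
  haveI : Module.Finite A (LinearMap.ker S.g.hom) := h1
  haveI : Module.Projective A (LinearMap.ker S.g.hom) := h2
  haveI : Module.Finite A S.X₁ := (hE (m - 1)).1
  haveI : Module.FinitePresentation A (LinearMap.ker S.g.hom) :=
    Module.finitePresentation_of_projective A _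
  haveI : Module.FinitePresentation A
      (LinearMap.ker S.g.hom ⧸ LinearMap.range S.moduleCatToCycles) := by
    refine Module.finitePresentation_of_surjective _ (Submodule.mkQ_surjective _) ?_
    rw [Submodule.ker_mkQ, LinearMap.range_eq_map]
    exact Submodule.FG.map _ Module.Finite.fg_top
  let e₀ : S.moduleCatLeftHomologyData.H ≅ E.homology m :=
    S.moduleCatHomologyIso.symm ≪≫
      (ShortComplex.homologyMapIso (E.isoSc' (m - 1) m (m + 1) (by simp) (by simp))).symm
  let e : (LinearMap.ker S.g.hom ⧸ LinearMap.range S.moduleCatToCycles) ≃ₗ[A] E.homology m :=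
    e₀.toLinearEquiv
  have he : Module.FinitePresentation A (E.homology m) :=
    Module.finitePresentation_of_surjective e.toLinearMap e.surjective
      (by rw [LinearEquiv.ker]; exact Submodule.fg_bot)
  exact ⟨inferInstance, he⟩

/-- The cohomology of an `m`-pseudo-coherent object in the top degree. -/
theorem finite_homology {m : ℤ} {K : Dual.D A} (hK : DRing.IsPseudoCoherent A m K) :
    ((∀ i : ℤ, m < i → IsZero ((DerivedCategory.homologyFunctor (ModuleCat.{u} A) i).obj K)) →
        Module.Finite A ((DerivedCategory.homologyFunctor (ModuleCat.{u} A) m).obj K)) ∧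
      ((∀ i : ℤ, m + 1 < i → IsZero ((DerivedCategory.homologyFunctor (ModuleCat.{u} A) i).obj K)) →
        Module.FinitePresentation A ((DerivedCategory.homologyFunctor (ModuleCat.{u} A) (m + 1)).obj K)) := by
  obtain ⟨E, a, b, α, hab, hE, hiso, hepi⟩ := hK
  let ι := fun i => (DerivedCategory.homologyFunctorFactors (ModuleCat.{u} A) i).app E
  have hz : ∀ i, m < i → IsZero ((DerivedCategory.homologyFunctor (ModuleCat.{u} A) i).obj K) →
      E.ExactAt i := fun i hi h => by
    haveI := hiso i hi
    rw [HomologicalComplex.exactAt_iff_isZero_homology]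
    exact (h.of_iso (asIso ((DerivedCategory.homologyFunctor _ i).map α))).of_iso (ι i).symm
  refine ⟨fun h => ?_, fun h => ?_⟩
  · obtain ⟨hfin, -⟩ := homology_finite E b m (vanishesAbove_of_vanishesOutside hab)
      (termwiseFiniteProjective_of_free hE) (fun i hi => hz i hi (h i hi))
    haveI : Module.Finite A
        ((HomologicalComplex.homologyFunctor (ModuleCat.{u} A) (ComplexShape.up ℤ) m).obj E) := hfin
    haveI := hepi
    exact Module.Finite.of_surjective ((ι m).inv ≫ (DerivedCategory.homologyFunctor _ m).map α).hom
      ((ModuleCat.epi_iff_surjective _).1 inferInstance)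
  · obtain ⟨-, hfp⟩ := homology_finite E b (m + 1) (vanishesAbove_of_vanishesOutside hab)
      (termwiseFiniteProjective_of_free hE) (fun i hi => hz i (by omega) (h i hi))
    haveI : Module.FinitePresentation A
        ((HomologicalComplex.homologyFunctor (ModuleCat.{u} A) (ComplexShape.up ℤ) (m + 1)).obj E) := hfp
    haveI := hiso (m + 1) (by omega)
    let e := ((ι (m + 1)).symm ≪≫ asIso ((DerivedCategory.homologyFunctor _ (m + 1)).map α)).toLinearEquiv
    exact Module.finitePresentation_of_surjective e.toLinearMap e.surjective
      (by rw [LinearEquiv.ker]; exact Submodule.fg_bot)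

end Groth.Agent.DRingKProj
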