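import Groth.Agent.DRingKProj.Triangle
import Groth.Agent.DRingKProj.TopHomology
import Groth.Agent.DRingKProj.ConeElem
import Mathlib.Algebra.Category.ModuleCat.Descent
import Mathlib.RingTheory.Localization.Finiteness
import Mathlib.RingTheory.LocalProperties.Submodule
import Mathlib.RingTheory.Flat.Localization
import Mathlib.RingTheory.Localization.BaseChange

/-!
# Pseudo-coherence is local on `Spec R`
-/

universe u

open CategoryTheory CategoryTheory.Limits CategoryTheory.Pretriangulated CochainComplex

namespace Groth.Agent.DRingKProj

attribute [local instance] HasDerivedCategory.standard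

variable {R : Type u} [CommRing R]

/-- Base change to `R_r`. -/
noncomputable abbrev locFun (r : R) : ModuleCat.{u} R ⥤ ModuleCat.{u} (Localization.Away r) :=
  ModuleCat.extendScalars.{u, u, u} (algebraMap R (Localization.Away r))

lemma flat_away (r : R) : (algebraMap R (Localization.Away r)).Flat :=
  RingHom.flat_algebraMap_iff.2 (IsLocalization.flat (Localization.Away r) (Submonoid.powers r))

/-- Homology commutes with localisation. -/
noncomputable def locHomologyIso (r : R) (K : DRing.Cx R) (i : ℤ) :
    (((locFun r).mapHomologicalComplex (ComplexShape.up ℤ)).obj K).homology i ≅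
      (locFun r).obj (K.homology i) :=
  haveI := ModuleCat.preservesFiniteLimits_extendScalars_of_flat (flat_away r)
  haveI : (locFun r).PreservesHomology := inferInstance
  (K.sc i).mapHomologyIso (locFun r)

/-- The base change of `K` to `R_r`. -/
noncomputable abbrev locCx (r : R) (K : DRing.Cx R) : DRing.Cx (Localization.Away r) :=
  ((locFun r).mapHomologicalComplex (ComplexShape.up ℤ)).obj K

/-- The two module structures on `R_r` agree. -/
noncomputable def restrictSelfEquiv {B : Type u} [CommRing B] [Algebra R B] :
    ((ModuleCat.restrictScalars (algebraMap R B)).obj (ModuleCat.of B B)) ≃ₗ[R] B where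
  toFun x := x
  invFun x := x
  left_inv _ := rfl
  right_inv _ := rfl
  map_add' _ _ := rfl
  map_smul' a x := (Algebra.smul_def a (show B from x)).symm

/-- Extension of scalars is the base change. -/
noncomputable def extendEquiv {B : Type u} [CommRing B] [Algebra R B] (M : ModuleCat.{u} R) :
    ((ModuleCat.extendScalars.{u, u, u} (algebraMap R B)).obj M) ≃ₗ[B] TensorProduct R B M :=
  let X := (ModuleCat.extendScalars.{u, u, u} (algebraMap R B)).obj M
  let e : X ≃+ TensorProduct R B M :=
    (TensorProduct.congr (restrictSelfEquiv (R := R) (B := B)) (LinearEquiv.refl R M)).toAddEquiv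
  have key : ∀ (c : B) (x : X), e (c • x) = c • e x := fun c x => by
    induction x using TensorProduct.induction_on with
    | zero =>
      show e (c • (0 : X)) = c • e (0 : X)
      rw [smul_zero, map_zero, smul_zero]
    | tmul b m => rfl
    | add x y hx hy =>
      show e (c • ((show X from x) + (show X from y))) = c • e ((show X from x) + (show X from y))
      rw [smul_add, map_add, map_add, smul_add, hx, hy]
  { e with map_smul' := key }

variable (s : Set R) (hs : Ideal.span s = ⊤)

include hs

lemma subsingleton_of_local (M : ModuleCat.{u} R) (h : ∀ g : s, IsZero ((locFun g.1).obj M)) :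
    Subsingleton M := by
  refine subsingleton_of_forall_eq 0 fun x => ?_
  exact Module.eq_zero_of_isLocalized_span s hs (fun g : s => TensorProduct R (Localization.Away g.1) M)
    (fun g : s => TensorProduct.mk R (Localization.Away g.1) M 1) x fun g =>
      haveI := ModuleCat.subsingleton_of_isZero (h g)
      haveI := (extendEquiv (B := Localization.Away g.1) M).symm.toEquiv.subsingleton
      Subsingleton.elim _ _

lemma finite_of_local (M : ModuleCat.{u} R)
    (h : ∀ g : s, Module.Finite (Localization.Away g.1) ((locFun g.1).obj M)) : Module.Finite R M :=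
  Module.Finite.of_localizationSpan' s hs (Rₚ := fun g : s => Localization.Away g.1)
    (Mₚ := fun g : s => TensorProduct R (Localization.Away g.1) M)
    (fun g : s => TensorProduct.mk R (Localization.Away g.1) M 1) fun g =>
      haveI := h g
      Module.Finite.equiv (extendEquiv (B := Localization.Away g.1) M)

lemma exactAt_of_local (K : DRing.Cx R) (i : ℤ) (h : ∀ g : s, (locCx g.1 K).ExactAt i) :
    K.ExactAt i := by
  rw [HomologicalComplex.exactAt_iff_isZero_homology]
  haveI := subsingleton_of_local s hs (K.homology i) fun g =>
    ((h g).isZero_homology).of_iso (locHomologyIso g.1 K i).symm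
  exact ModuleCat.isZero_of_subsingleton _

/-- Descending induction on the top degree. -/
theorem isPseudoCoherent_of_local (m : ℤ) : ∀ (d : ℕ) (K : DRing.Cx R) (b : ℤ),
    b + 1 - m ≤ d → (∀ i, b < i → K.ExactAt i) →
    (∀ g : s, DRing.IsPseudoCoherent (Localization.Away g.1) m (DRing.toD (locCx g.1 K))) →
    DRing.IsPseudoCoherent R m (DRing.toD K) := by
  intro d
  induction d with
  | zero =>
    intro K b hd hK _
    let Z : DRing.Cx R :=
      (HomologicalComplex.single _ (ComplexShape.up ℤ) m).obj (ModuleCat.of R PUnit.{u + 1})
    have hE : ∀ i, IsZero (Z.X i) := fun i =>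
      (HomologicalComplex.single _ (ComplexShape.up ℤ) m ⋙ HomologicalComplex.eval _ _ i).map_isZero
        (ModuleCat.isZero_of_subsingleton _)
    refine ⟨Z, m, m, 0, fun i _ => hE i, fun i => ?_, fun i hi => ?_, ?_⟩
    · haveI := ModuleCat.subsingleton_of_isZero (hE i)
      exact ⟨inferInstance, inferInstance⟩
    · refine isIso_of_source_target_iso_zero _ ?_ ?_
      · have hz : Z.ExactAt i := ShortComplex.exact_of_isZero_X₂ _ (hE i)
        exact (IsZero.of_iso hz.isZero_homology
          ((DerivedCategory.homologyFunctorFactors _ i).app _)).isoZero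
      · exact (IsZero.of_iso (hK i (by omega)).isZero_homology
          ((DerivedCategory.homologyFunctorFactors _ i).app K)).isoZero
    · refine ⟨fun g h _ => IsZero.eq_of_src ?_ g h⟩
      exact IsZero.of_iso (hK m (by omega)).isZero_homology
        ((DerivedCategory.homologyFunctorFactors _ m).app K)
  | succ d ih =>
    intro K b hd hK hloc
    by_cases hbm : b < m
    · exact ih K b (by omega) hK hloc
    have hfinloc : ∀ g : s, Module.Finite (Localization.Away g.1) ((locFun g.1).obj (K.homology b)) := by
      intro g
      have h := (finite_homology (isPseudoCoherent_mono (not_lt.1 hbm) (hloc g))).1 fun i hi => by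
        refine (vanishGE_Q_iff (b + 1) (locCx g.1 K)).2 (fun j hj => ?_) i (by omega)
        haveI := ModuleCat.preservesFiniteLimits_extendScalars_of_flat (flat_away g.1)
        rw [HomologicalComplex.exactAt_iff_isZero_homology]
        exact ((locFun g.1).map_isZero (hK j (by omega)).isZero_homology).of_iso (locHomologyIso g.1 K j)
      haveI : Module.Finite (Localization.Away g.1)
          ((DerivedCategory.Q ⋙ DerivedCategory.homologyFunctor (ModuleCat.{u} (Localization.Away g.1)) b).obj
            (locCx g.1 K)) := h
      exact Module.Finite.equiv ((DerivedCategory.homologyFunctorFactors _ b).app (locCx g.1 K) ≪≫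
        locHomologyIso g.1 K b).toLinearEquiv
    haveI := finite_of_local s hs (K.homology b) hfinloc
    let S := K.sc' (b - 1) b (b + 1)
    haveI : Module.Finite R (K.sc b).homology := ‹_›
    haveI : Module.Finite R S.homology :=
      Module.Finite.equiv (ShortComplex.homologyMapIso
        (K.isoSc' (b - 1) b (b + 1) (by simp) (by simp))).toLinearEquiv
    obtain ⟨t, ht, hgen⟩ := exists_cycle_generators S
    let φ₀ : ModuleCat.of R (t →₀ R) ⟶ K.X b :=
      ModuleCat.ofHom (Finsupp.linearCombination R (M := K.X b) fun c : t => (c.1 : K.X b))
    let F : DRing.Cx R := (HomologicalComplex.single _ (ComplexShape.up ℤ) b).obj (ModuleCat.of R (t →₀ R))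
    let f : F ⟶ K := HomologicalComplex.mkHomFromSingle φ₀ (by
      intro k hk
      obtain rfl : b + 1 = k := hk
      refine ModuleCat.hom_ext (Finsupp.lhom_ext fun c r => ?_)
      show K.d b (b + 1) (Finsupp.linearCombination R (fun c : t => (c.1 : K.X b)) (Finsupp.single c r)) = 0
      rw [Finsupp.linearCombination_single]
      have e : (show K.X (b + 1) from K.d b (b + 1) (c.1 : K.X b)) = 0 := ht c.1 c.2
      exact ((K.d b (b + 1)).hom.map_smul r (c.1 : K.X b)).trans
        ((congrArg (fun y : K.X (b + 1) => r • y) e).trans (smul_zero r)))
    have hFab : DRing.VanishesOutside F b b := fun i hi =>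
      HomologicalComplex.isZero_single_obj_X _ _ _ _ (by omega)
    have hF : DRing.TermwiseFiniteFree F := by
      intro i
      by_cases hi : i = b
      · subst hi
        let e : F.X i ≃ₗ[R] (t →₀ R) :=
          (HomologicalComplex.singleObjXSelf (ComplexShape.up ℤ) i (ModuleCat.of R (t →₀ R))).toLinearEquiv
        exact ⟨Module.Finite.equiv e.symm, Module.Free.of_equiv e.symm⟩
      · haveI := ModuleCat.subsingleton_of_isZero (hFab i (by omega))
        exact ⟨inferInstance, inferInstance⟩
    have hFK : IsoAbove b (DerivedCategory.Q.map f) := by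
      rw [isoAbove_Q_map_iff_homologyMap]
      refine ⟨fun i hi => ?_, (ModuleCat.epi_iff_surjective _).2 ?_⟩
      · have hz : F.ExactAt i := ShortComplex.exact_of_isZero_X₂ _ (hFab i (Or.inr hi))
        exact isIso_of_source_target_iso_zero _ hz.isZero_homology.isoZero
          (hK i hi).isZero_homology.isoZero
      · refine (FlatComplex.homologyMap_surjective_iff
          ((HomologicalComplex.shortComplexFunctor _ _ b).map f)).2 fun z hz => ?_
        change K.X b at z
        have hz' : K.d b (b + 1) z = 0 := by
          have : (ComplexShape.up ℤ).next b = b + 1 := by simp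
          rw [← this]
          exact hz
        obtain ⟨v, hv, w, hw⟩ := hgen z hz'
        change K.X b at v
        obtain ⟨l, hl⟩ : ∃ l : t →₀ R, φ₀ l = v := by
          have hv' : v ∈ LinearMap.range
              (Finsupp.linearCombination R (M := K.X b) fun c : t => (c.1 : K.X b)) := by
            rw [Finsupp.range_linearCombination]
            refine Submodule.span_mono ?_ hv
            intro c hc
            exact ⟨⟨c, hc⟩, rfl⟩
          exact hv'
        refine ⟨(HomologicalComplex.singleObjXSelf (ComplexShape.up ℤ) b (ModuleCat.of R (t →₀ R))).inv l,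
          ?_, ?_⟩
        · haveI := ModuleCat.subsingleton_of_isZero
            (hFab ((ComplexShape.up ℤ).next b) (Or.inr (by simp)))
          exact Subsingleton.elim (α := F.X ((ComplexShape.up ℤ).next b)) _ _
        · have e : ∀ j, j = b - 1 → ∀ w : K.X (b - 1), ∃ w' : K.X j, K.d j b w' = K.d (b - 1) b w := by
            intro j hj w
            cases hj
            exact ⟨w, rfl⟩
          change K.X (b - 1) at w
          obtain ⟨w', hw'⟩ := e ((ComplexShape.up ℤ).prev b) (by simp) (-w)
          refine ⟨w', ?_⟩
          show (f.f b _ - z : K.X b) = K.d ((ComplexShape.up ℤ).prev b) b w'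
          change (z - v : K.X b) = K.d (b - 1) b w at hw
          rw [hw', map_neg, ← hw, neg_sub, HomologicalComplex.mkHomFromSingle_f, ← hl]
          congr 1
          exact congrArg φ₀ (congrArg (fun t => t.hom l)
            (HomologicalComplex.singleObjXSelf (ComplexShape.up ℤ) b (ModuleCat.of R (t →₀ R))).inv_hom_id)
    have hC : DRing.IsPseudoCoherent R m (DRing.toD (mappingCone f)) := by
      refine ih (mappingCone f) (b - 1) (by omega)
        (fun i hi => (isoAbove_Q_map_iff b f).1 hFK i (by omega)) fun g => ?_
      let G := (locFun g.1).mapHomologicalComplex (ComplexShape.up ℤ)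
      refine isPseudoCoherent_of_iso
        (DerivedCategory.Q.mapIso (mappingCone.mapHomologicalComplexIso f (locFun g.1))).symm ?_
      exact isPseudoCoherent_obj₃ _ (DerivedCategory.mappingCone_triangle_distinguished (G.map f)) m
        (isPseudoCoherent_toD (fun i hi => (locFun g.1).map_isZero (hFab i hi))
          (termwiseFiniteFree_map_extendScalars _ hF) (m + 1)) (hloc g)
    exact isPseudoCoherent_obj₂ _ (DerivedCategory.mappingCone_triangle_distinguished f) m
      (isPseudoCoherent_toD hFab hF m) hC

/-- Pseudo-coherence is local. -/
theorem isPseudoCoherent_of_locally (hfin : s.Finite) (K : DRing.Cx R) (m : ℤ)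
    (h : ∀ g : s, DRing.IsPseudoCoherent (Localization.Away g.1) m (DRing.toD (locCx g.1 K))) :
    DRing.IsPseudoCoherent R m (DRing.toD K) := by
  haveI := hfin.to_subtype
  choose b hb using fun g : s => (show ∃ b : ℤ, ∀ i, b < i → (locCx g.1 K).ExactAt i by
    obtain ⟨E, a, b, α, hab, hE, hiso, -⟩ := h g
    refine ⟨max b m, fun i hi => ?_⟩
    haveI := hiso i (by omega)
    rw [HomologicalComplex.exactAt_iff_isZero_homology]
    refine IsZero.of_iso ?_ ((DerivedCategory.homologyFunctorFactors _ i).app (locCx g.1 K)).symm
    refine IsZero.of_iso ?_ (asIso ((DerivedCategory.homologyFunctor _ i).map α)).symm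
    refine IsZero.of_iso ?_ ((DerivedCategory.homologyFunctorFactors _ i).app E)
    have hz : E.ExactAt i := ShortComplex.exact_of_isZero_X₂ _ (hab i (Or.inr (by omega)))
    exact hz.isZero_homology)
  obtain ⟨B, hB⟩ := (Set.finite_range b).bddAbove
  refine isPseudoCoherent_of_local s hs m (B + 1 - m).toNat K B (by omega) (fun i hi => ?_) h
  exact exactAt_of_local s hs K i fun g => hb g i (lt_of_le_of_lt (hB ⟨g, rfl⟩) hi)

end Groth.Agent.DRingKProj
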