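import Groth.Agent.DRingKProj.Trunc
import Groth.Agent.DerCat.KInjLib
import Groth.Agent.Triang.Nine

/-!
# Pseudo-coherence in distinguished triangles
-/

universe u

open CategoryTheory CategoryTheory.Limits CategoryTheory.Pretriangulated

namespace Groth.Agent.DRingKProj

attribute [local instance] HasDerivedCategory.standard

variable {A : Type u} [CommRing A]

lemma isPseudoCoherent_iff (m : ℤ) (K : Dual.D A) :
    DRing.IsPseudoCoherent A m K ↔ ∃ (E : DRing.Cx A) (a b : ℤ) (α : DRing.toD E ⟶ K),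
      DRing.VanishesOutside E a b ∧ DRing.TermwiseFiniteFree E ∧ IsoAbove m α :=
  Iff.rfl

lemma isPseudoCoherent_mono {m m' : ℤ} (h : m ≤ m') {K : Dual.D A}
    (hK : DRing.IsPseudoCoherent A m K) : DRing.IsPseudoCoherent A m' K := by
  obtain ⟨E, a, b, α, hab, hf, hα⟩ := hK
  exact ⟨E, a, b, α, hab, hf, IsoAbove.mono_degree h hα⟩

lemma isPseudoCoherent_of_isoAbove {m : ℤ} {K L : Dual.D A} (f : K ⟶ L) (hf : IsoAbove m f)
    (hK : DRing.IsPseudoCoherent A m K) : DRing.IsPseudoCoherent A m L := by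
  obtain ⟨E, a, b, α, hab, hE, hα⟩ := hK
  exact ⟨E, a, b, α ≫ f, hab, hE, IsoAbove.comp hα hf⟩

lemma isPseudoCoherent_of_iso {m : ℤ} {K L : Dual.D A} (e : K ≅ L)
    (hK : DRing.IsPseudoCoherent A m K) : DRing.IsPseudoCoherent A m L :=
  isPseudoCoherent_of_isoAbove e.hom (IsoAbove.of_isIso m _) hK

lemma isPseudoCoherent_toD {E : DRing.Cx A} {a b : ℤ} (hab : DRing.VanishesOutside E a b)
    (hE : DRing.TermwiseFiniteFree E) (m : ℤ) : DRing.IsPseudoCoherent A m (DRing.toD E) :=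
  ⟨E, a, b, 𝟙 _, hab, hE, IsoAbove.of_isIso m _⟩

/-- A witness can be chosen to vanish below the degree. -/
lemma exists_witness {m : ℤ} {K : Dual.D A} (hK : DRing.IsPseudoCoherent A m K) :
    ∃ (E : DRing.Cx A) (b : ℤ) (α : DRing.toD E ⟶ K),
      DRing.VanishesOutside E m b ∧ DRing.TermwiseFiniteFree E ∧ IsoAbove m α := by
  obtain ⟨E, a, b, α, hab, hE, hα⟩ := hK
  exact ⟨trunc E m, b, DerivedCategory.Q.map (truncι E m) ≫ α,
    trunc_vanishesOutside E m (vanishesAbove_of_vanishesOutside hab), trunc_finiteFree E m hE,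
    IsoAbove.comp (isoAbove_truncι E m) hα⟩

/-- Maps from a bounded finite free complex in degrees `≥ m` to an object with no cohomology there. -/
lemma eq_zero_of_vanishGE {E : DRing.Cx A} {m b : ℤ} (hab : DRing.VanishesOutside E m b)
    (hE : DRing.TermwiseFiniteFree E) {Y : Dual.D A} (hY : VanishGE m Y) (g : DRing.toD E ⟶ Y) :
    g = 0 := by
  let Y₀ := DerivedCategory.Q.objPreimage Y
  let e : DRing.toD Y₀ ≅ Y := DerivedCategory.Q.objObjPreimageIso Y
  haveI := isKProjective_of_vanishesAbove (vanishesAbove_of_vanishesOutside hab) hE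
  obtain ⟨g₀, hg₀⟩ := PCExt.Q_map_surjective_of_isKProjective E Y₀ (g ≫ e.inv)
  have hY₀ : ∀ i, m ≤ i → Y₀.ExactAt i := (vanishGE_Q_iff m Y₀).1 fun i hi =>
    (hY i hi).of_iso ((DerivedCategory.homologyFunctor _ i).mapIso e)
  haveI : E.IsStrictlyGE m := by
    rw [CochainComplex.isStrictlyGE_iff]
    exact fun i hi => hab i (Or.inl hi)
  haveI : E.IsStrictlyLE b := by
    rw [CochainComplex.isStrictlyLE_iff]
    exact fun i hi => hab i (Or.inr hi)
  have hP : ∀ i, CategoryTheory.Projective (E.X i) := fun i => by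
    haveI := (hE i).2
    haveI : Module.Projective A (E.X i) := Module.Projective.of_free
    exact (IsProjective.iff_projective (E.X i)).1 this
  obtain ⟨h⟩ := DerCat.nullHomotopic_of_projective m b hP hY₀ g₀
  have h0 : DerivedCategory.Q.map g₀ = 0 := by
    rw [PCExt.Q_map_eq_zero_iff_of_isKProjective, HomotopyCategory.eq_of_homotopy _ _ h,
      Functor.map_zero]
  rw [show DerivedCategory.Q.map g₀ = g ≫ e.inv from hg₀] at h0
  rw [← cancel_mono e.inv, h0, zero_comp]

/-- The third vertex. -/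
theorem isPseudoCoherent_obj₃ (T : Triangle (Dual.D A)) (hT : T ∈ distTriang _) (m : ℤ)
    (h₁ : DRing.IsPseudoCoherent A (m + 1) T.obj₁) (h₂ : DRing.IsPseudoCoherent A m T.obj₂) :
    DRing.IsPseudoCoherent A m T.obj₃ := by
  obtain ⟨E₁, b₁, α, hab₁, hE₁, hα⟩ := exists_witness h₁
  obtain ⟨E₂, a, b₂, β, hab₂, hE₂, hβ⟩ := h₂
  haveI := isKProjective_of_vanishesAbove (vanishesAbove_of_vanishesOutside hab₁) hE₁
  obtain ⟨Y'', v, v', hv⟩ := distinguished_cocone_triangle β
  have hY : VanishGE m Y'' := (isoAbove_mor₁_iff _ hv m).1 hβ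
  obtain ⟨γ', hγ'⟩ := Triangle.coyoneda_exact₂ _ hv (α ≫ T.mor₁)
    (eq_zero_of_vanishGE hab₁ hE₁ (fun i hi => hY i (by omega)) _)
  obtain ⟨γ, hγ⟩ := PCExt.Q_map_surjective_of_isKProjective E₁ E₂ γ'
  obtain ⟨Z, Z', X'', Y₂, Z'', g, h, g', h', f'', g'', h'', u', u'', v₁, v₂, w, w', w'', hf, hf',
    hf'', hu, hv₁, hw, -⟩ := Triang.nine (DerivedCategory.Q.map γ) T.mor₁ α β (by
      rw [show DerivedCategory.Q.map γ = γ' from hγ]
      exact hγ'.symm)
  have hX : VanishGE (m + 1) X'' := (isoAbove_mor₁_iff _ hu (m + 1)).1 hα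
  have hY₂ : VanishGE m Y₂ := (isoAbove_mor₁_iff _ hv₁ m).1 hβ
  have hZ : VanishGE m Z'' := fun i hi =>
    (DerivedCategory.HomologySequence.exact₃ _ hf'' i (i + 1) rfl).isZero_of_both_zeros
      ((hY₂ i hi).eq_of_src _ _) ((hX (i + 1) (by omega)).eq_of_tgt _ _)
  have hwAbove : IsoAbove m w := (isoAbove_mor₁_iff _ hw m).2 hZ
  let e₁ := isoTriangleOfIso₁₂ _ _ hf (DerivedCategory.mappingCone_triangle_distinguished γ)
    (Iso.refl _) (Iso.refl _) ((Category.comp_id _).trans (Category.id_comp _).symm)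
  let e₂ := isoTriangleOfIso₁₂ _ _ hf' hT (Iso.refl _) (Iso.refl _)
    ((Category.comp_id _).trans (Category.id_comp _).symm)
  obtain ⟨a', b', hEc⟩ : ∃ a' b', DRing.VanishesOutside (CochainComplex.mappingCone γ) a' b' :=
    ⟨min m (min a (m + 1) - 1), max b₁ b₂, mappingCone_vanishesOutside γ
      (vanishesOutside_mono hab₁ (by omega) (by omega))
      (vanishesOutside_mono hab₂ (by omega) (by omega))⟩
  refine isPseudoCoherent_of_iso (Triangle.π₃.mapIso e₂)
    (isPseudoCoherent_of_isoAbove w hwAbove (isPseudoCoherent_of_iso (Triangle.π₃.mapIso e₁).symm ?_))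
  exact isPseudoCoherent_toD hEc (mappingCone_finiteFree γ hE₁ hE₂) m

/-- Homology of a shift. -/
noncomputable def homologyShiftIso (n i i' : ℤ) (h : n + i = i') (X : Dual.D A) :
    (DerivedCategory.homologyFunctor (ModuleCat.{u} A) i).obj (X⟦n⟧) ≅
      (DerivedCategory.homologyFunctor (ModuleCat.{u} A) i').obj X :=
  ((DerivedCategory.homologyFunctor (ModuleCat.{u} A) 0).shiftIso n i i' h).app X

lemma isoAbove_shift {m n : ℤ} {X Y : Dual.D A} {f : X ⟶ Y} (hf : IsoAbove m f) :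
    IsoAbove (m - n) (f⟦n⟧') := by
  have e : ∀ i i', n + i = i' →
      (Arrow.mk ((DerivedCategory.homologyFunctor (ModuleCat.{u} A) i).map (f⟦n⟧')) ≅
        Arrow.mk ((DerivedCategory.homologyFunctor (ModuleCat.{u} A) i').map f)) := fun i i' h =>
    Arrow.isoMk' _ _ (homologyShiftIso n i i' h X) (homologyShiftIso n i i' h Y)
      (((DerivedCategory.homologyFunctor (ModuleCat.{u} A) 0).shiftIso n i i' h).hom.naturality f).symm
  refine ⟨fun i hi => ?_, ?_⟩
  · exact ((MorphismProperty.isomorphisms _).arrow_iso_iff (e i (n + i) rfl)).2 (hf.1 _ (by omega))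
  · exact ((MorphismProperty.epimorphisms _).arrow_mk_iso_iff (e (m - n) m (by omega))).2 hf.2

lemma isPseudoCoherent_shift {m : ℤ} {K : Dual.D A} (hK : DRing.IsPseudoCoherent A m K) (n : ℤ) :
    DRing.IsPseudoCoherent A (m - n) (K⟦n⟧) := by
  obtain ⟨E, a, b, α, hab, hE, hα⟩ := hK
  exact ⟨E⟦n⟧, a - n, b - n, ((DerivedCategory.Q.commShiftIso n).app E).hom ≫ α⟦n⟧',
    fun i hi => hab (i + n) (by omega), fun i => hE (i + n),
    IsoAbove.comp (IsoAbove.of_isIso _ _) (isoAbove_shift hα)⟩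

lemma isPseudoCoherent_of_shift {m : ℤ} {K : Dual.D A} (n : ℤ)
    (hK : DRing.IsPseudoCoherent A m (K⟦n⟧)) : DRing.IsPseudoCoherent A (m + n) K := by
  have h := isPseudoCoherent_of_iso ((shiftFunctorCompIsoId (Dual.D A) n (-n) (add_neg_cancel n)).app K)
    (isPseudoCoherent_shift hK (-n))
  rwa [sub_neg_eq_add] at h

/-- The middle vertex. -/
theorem isPseudoCoherent_obj₂ (T : Triangle (Dual.D A)) (hT : T ∈ distTriang _) (m : ℤ)
    (h₁ : DRing.IsPseudoCoherent A m T.obj₁) (h₃ : DRing.IsPseudoCoherent A m T.obj₃) :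
    DRing.IsPseudoCoherent A m T.obj₂ := by
  refine isPseudoCoherent_obj₃ T.invRotate (inv_rot_of_distTriang _ hT) m ?_ h₁
  have h := isPseudoCoherent_shift h₃ (-1)
  rwa [sub_neg_eq_add] at h

/-- The first vertex. -/
theorem isPseudoCoherent_obj₁ (T : Triangle (Dual.D A)) (hT : T ∈ distTriang _) (m : ℤ)
    (h₂ : DRing.IsPseudoCoherent A (m + 1) T.obj₂) (h₃ : DRing.IsPseudoCoherent A m T.obj₃) :
    DRing.IsPseudoCoherent A (m + 1) T.obj₁ :=
  isPseudoCoherent_of_shift 1 (isPseudoCoherent_obj₃ T.rotate (rot_of_distTriang _ hT) m h₂ h₃)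

end Groth.Agent.DRingKProj
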