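import Groth.Agent.DRingKProj.Cells

/-!
# Pseudo-coherent objects are represented by bounded above complexes of finite free modules
-/

universe u

open CategoryTheory CategoryTheory.Limits CochainComplex

namespace Groth.Agent.DRingKProj

attribute [local instance] HasDerivedCategory.standard

variable {A : Type u} [CommRing A]

lemma isPseudoCoherent_of_pseudoCoherent' {K : Dual.D A} (hK : DRing.IsPseudoCoherent' A K) (m : ℤ) :
    DRing.IsPseudoCoherent A m K := by
  obtain ⟨E, b, hb, hE, ⟨e⟩⟩ := hK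
  exact ⟨trunc E m, m, b, DerivedCategory.Q.map (truncι E m) ≫ e.hom,
    trunc_vanishesOutside E m hb, trunc_finiteFree E m hE,
    IsoAbove.comp (isoAbove_truncι E m) (IsoAbove.of_isIso m _)⟩

lemma exists_vanishGE {m : ℤ} {K : Dual.D A} (hK : DRing.IsPseudoCoherent A m K) :
    ∃ b : ℤ, ∀ i, b < i → IsZero ((DerivedCategory.homologyFunctor (ModuleCat.{u} A) i).obj K) := by
  obtain ⟨E, a, b, α, hab, hE, hiso, -⟩ := hK
  refine ⟨max b m, fun i hi => ?_⟩
  haveI := hiso i (by omega)
  refine IsZero.of_iso ?_ (asIso ((DerivedCategory.homologyFunctor _ i).map α)).symm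
  refine IsZero.of_iso ?_ ((DerivedCategory.homologyFunctorFactors _ i).app E)
  have h : E.ExactAt i := ShortComplex.exact_of_isZero_X₂ _ (hab i (Or.inr (by omega)))
  exact h.isZero_homology

theorem pseudoCoherent'_of_forall {K : Dual.D A} (hK : ∀ m, DRing.IsPseudoCoherent A m K) :
    DRing.IsPseudoCoherent' A K := by
  let K₀ := DerivedCategory.Q.objPreimage K
  let e : DRing.toD K₀ ≅ K := DerivedCategory.Q.objObjPreimageIso K
  obtain ⟨b, hb⟩ := exists_vanishGE (hK 0)
  have hK₀ : ∀ i, b < i → K₀.ExactAt i := fun i hi =>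
    (vanishGE_Q_iff (b + 1) K₀).1 (fun j hj => (hb j (by omega)).of_iso
      ((DerivedCategory.homologyFunctor _ j).mapIso e)) i (by omega)
  obtain ⟨F, π, hFb, hF, hπ⟩ := exists_finiteFree_resolution hK₀ (b := b) (by
    intro n F f _ hFab hF hex
    have hT := DerivedCategory.mappingCone_triangle_distinguished f
    have hC := isPseudoCoherent_obj₃ _ hT n (isPseudoCoherent_toD hFab hF (n + 1))
      (isPseudoCoherent_of_iso e.symm (hK n))
    have hfin := (finite_homology hC).1 fun i hi =>
      (vanishGE_Q_iff (n + 1) (mappingCone f)).2 (fun j hj => hex j (by omega)) i (by omega)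
    haveI : Module.Finite A
        ((DerivedCategory.Q ⋙ DerivedCategory.homologyFunctor (ModuleCat.{u} A) n).obj (mappingCone f)) := hfin
    exact Module.Finite.equiv
      ((DerivedCategory.homologyFunctorFactors (ModuleCat.{u} A) n).app (mappingCone f)).toLinearEquiv)
  haveI := hπ
  exact ⟨F, b, hFb, hF, ⟨asIso (DerivedCategory.Q.map π) ≪≫ e⟩⟩

lemma mappingCone_finiteProjective {F E : DRing.Cx A} (f : F ⟶ E)
    (hF : DRing.TermwiseFiniteProjective F) (hE : DRing.TermwiseFiniteProjective E) :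
    DRing.TermwiseFiniteProjective (mappingCone f) := by
  intro i
  haveI := (hF (i + 1)).1
  haveI := (hF (i + 1)).2
  haveI := (hE i).1
  haveI := (hE i).2
  let e := (HomologicalComplex.homotopyCofiber.XIsoBiprod f i (i + 1) rfl ≪≫
    ModuleCat.biprodIsoProd (F.X (i + 1)) (E.X i)).toLinearEquiv
  exact ⟨Module.Finite.equiv e.symm, Module.Projective.of_equiv e.symm⟩

theorem pseudoCoherent'_of_projective {E : DRing.Cx A} {b : ℤ} (hb : DRing.VanishesAbove E b)
    (hE : DRing.TermwiseFiniteProjective E) : DRing.IsPseudoCoherent' A (DRing.toD E) := by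
  obtain ⟨F, π, hFb, hF, hπ⟩ := exists_finiteFree_resolution (K := E) (b := b)
    (fun i hi => ShortComplex.exact_of_isZero_X₂ _ (hb i hi)) (by
      intro n F f hn hFab hF hex
      refine (homology_finite (mappingCone f) b n (fun i hi => ?_)
        (mappingCone_finiteProjective f (termwiseFiniteProjective_of_free hF) hE)
        (fun i hi => hex i hi)).1
      refine IsZero.of_iso ?_ (HomologicalComplex.homotopyCofiber.XIsoBiprod f i (i + 1) rfl)
      rw [biprod_isZero_iff]
      exact ⟨hFab _ (Or.inr (by omega)), hb i hi⟩)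
  haveI := hπ
  exact ⟨F, b, hFb, hF, ⟨asIso (DerivedCategory.Q.map π)⟩⟩

theorem pseudoCoherent_iff (K : Dual.D A) :
    ((∀ m : ℤ, DRing.IsPseudoCoherent A m K) ↔ DRing.IsPseudoCoherent' A K) ∧
      ((∀ m : ℤ, DRing.IsPseudoCoherent A m K) ↔ ∃ (E : DRing.Cx A) (b : ℤ), DRing.VanishesAbove E b ∧
        DRing.TermwiseFiniteProjective E ∧ Nonempty (DRing.toD E ≅ K)) := by
  refine ⟨⟨pseudoCoherent'_of_forall, isPseudoCoherent_of_pseudoCoherent'⟩, fun h => ?_, ?_⟩
  · obtain ⟨E, b, hb, hE, he⟩ := pseudoCoherent'_of_forall h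
    exact ⟨E, b, hb, termwiseFiniteProjective_of_free hE, he⟩
  · rintro ⟨E, b, hb, hE, ⟨e⟩⟩ m
    exact isPseudoCoherent_of_iso e
      (isPseudoCoherent_of_pseudoCoherent' (pseudoCoherent'_of_projective hb hE) m)

end Groth.Agent.DRingKProj
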