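import Groth.Agent.DRingKProj.ConeElem

/-!
# Bounded above finite free resolutions

A complex `K`, exact above `b`, all of whose "truncated cones" have finitely generated top homology, is
quasi-isomorphic to a bounded above complex of finite free modules.
-/

universe u

open CategoryTheory CategoryTheory.Limits CochainComplex

namespace Groth.Agent.DRingKProj

attribute [local instance] HasDerivedCategory.standard

variable {A : Type u} [CommRing A] (K : DRing.Cx A) (b : ℤ)

/-- Good cells in degrees `≤ b`. -/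
abbrev GCb (n : ℤ) : Type u := GC K (fun i => i ≤ b) n

variable {K b}

/-- A finite set of cells in each degree, closed under the boundary. -/
structure Cells (K : DRing.Cx A) (b : ℤ) where
  T : ∀ i, Finset (GCb K b i)
  closed : ∀ i, ∀ g ∈ T i, dG g.1 g.2 ∈ Finsupp.supported A A (T (i + 1) : Set (GCb K b (i + 1)))

namespace Cells

variable (c : Cells K b)

/-- The span of the cells. -/
noncomputable abbrev sub (i : ℤ) : Submodule A (GCb K b i →₀ A) :=
  Finsupp.supported A A (c.T i : Set (GCb K b i))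

lemma dMap_mem (i : ℤ) (p : GCb K b i →₀ A) (hp : p ∈ c.sub i) :
    dMap K _ i p ∈ c.sub (i + 1) := by
  rw [sub, Finsupp.supported_eq_span_single] at hp
  induction hp using Submodule.span_induction with
  | mem x hx =>
    obtain ⟨g, hg, rfl⟩ := hx
    rw [dMap_single, one_smul]
    exact c.closed i g hg
  | zero => rw [map_zero]; exact Submodule.zero_mem _
  | add x y _ _ hx hy => rw [map_add]; exact Submodule.add_mem _ hx hy
  | smul r x _ hx => rw [map_smul]; exact Submodule.smul_mem _ r hx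

/-- The subcomplex spanned by the cells. -/
noncomputable def F : DRing.Cx A :=
  CochainComplex.of (fun i => ModuleCat.of A (c.sub i))
    (fun i => ModuleCat.ofHom ((dMap K _ i).restrict (c.dMap_mem i)))
    (fun i => ModuleCat.hom_ext (LinearMap.ext fun x => Subtype.ext
      (LinearMap.congr_fun (dMap_comp K _ i) x.1)))

lemma F_d (i : ℤ) : c.F.d i (i + 1) = ModuleCat.ofHom ((dMap K _ i).restrict (c.dMap_mem i)) :=
  CochainComplex.of_d (fun i => ModuleCat.of A (c.sub i))
    (fun i => ModuleCat.ofHom ((dMap K _ i).restrict (c.dMap_mem i))) i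

lemma coe_F_d {i : ℤ} (x : c.sub i) :
    (show c.sub (i + 1) from c.F.d i (i + 1) x).1 = dMap K _ i x.1 := by
  rw [F_d]
  rfl

/-- The map to `K`. -/
noncomputable def π : c.F ⟶ K where
  f i := ModuleCat.ofHom ((valMap K _ i) ∘ₗ (c.sub i).subtype)
  comm' i j hij := by
    obtain rfl : i + 1 = j := hij
    rw [F_d]
    refine ModuleCat.hom_ext (LinearMap.ext fun x => ?_)
    have h := congrArg (fun t => t.hom x.1) ((φ K fun i => i ≤ b).comm i (i + 1))
    rw [P_d] at h
    exact h

lemma finiteFree : DRing.TermwiseFiniteFree c.F := fun i => by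
  let e : c.sub i ≃ₗ[A] ((c.T i : Set (GCb K b i)) →₀ A) := Finsupp.supportedEquivFinsupp _
  exact ⟨Module.Finite.equiv e.symm, Module.Free.of_equiv e.symm⟩

lemma isZero_X {i : ℤ} (h : c.T i = ∅) : IsZero (c.F.X i) := by
  haveI : Subsingleton (c.sub i) := by
    rw [sub, h, Finset.coe_empty, Finsupp.supported_empty]
    infer_instance
  exact ModuleCat.isZero_of_subsingleton (ModuleCat.of A (c.sub i))

lemma T_empty_of_lt {i : ℤ} (h : b < i) : c.T i = ∅ :=
  Finset.eq_empty_of_forall_notMem fun g _ => absurd (Good.mem g.2) (not_le.2 h)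

lemma vanishesAbove : DRing.VanishesAbove c.F b := fun _ hi => c.isZero_X (c.T_empty_of_lt hi)

/-- The span maps injectively on cohomology in degrees `> n` and surjectively in degrees `≥ n`. -/
def OK (n : ℤ) : Prop :=
  (∀ j, n ≤ j → ∀ p ∈ c.sub (j + 1), dMap K _ (j + 1) p = 0 →
      (∃ w, valMap K _ (j + 1) p = K.d j (j + 1) w) → ∃ q ∈ c.sub j, dMap K _ j q = p) ∧
    ∀ j, n ≤ j + 1 → ∀ z : K.X (j + 1), K.d (j + 1) (j + 1 + 1) z = 0 →
      ∃ p ∈ c.sub (j + 1), dMap K _ (j + 1) p = 0 ∧ ∃ w, valMap K _ (j + 1) p - z = K.d j (j + 1) w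

theorem isoAbove_π {n : ℤ} (h : c.OK n) : IsoAbove n (DerivedCategory.Q.map c.π) := by
  have key : ∀ j, n ≤ j + 1 → Function.Surjective (HomologicalComplex.homologyMap c.π (j + 1)) ∧
      (n ≤ j → Function.Injective (HomologicalComplex.homologyMap c.π (j + 1))) := by
    intro j hj
    have hsq : ∀ (φ : c.F ⟶ K), Arrow.mk (HomologicalComplex.homologyMap φ (j + 1)) ≅
        Arrow.mk (ShortComplex.homologyMap
          ((HomologicalComplex.shortComplexFunctor' _ _ j (j + 1) (j + 1 + 1)).map φ)) := fun φ =>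
      let ν := HomologicalComplex.natIsoSc' (ModuleCat.{u} A) (ComplexShape.up ℤ) j (j + 1)
        (j + 1 + 1) (by simp) (by simp)
      (ShortComplex.homologyFunctor (ModuleCat.{u} A)).mapArrow.mapIso
        (Arrow.isoMk' ((HomologicalComplex.shortComplexFunctor _ _ (j + 1)).map φ)
          ((HomologicalComplex.shortComplexFunctor' _ _ j (j + 1) (j + 1 + 1)).map φ)
          (ν.app c.F) (ν.app K) (ν.hom.naturality φ).symm)
    constructor
    · rw [← ModuleCat.epi_iff_surjective]
      refine ((MorphismProperty.epimorphisms _).arrow_mk_iso_iff (hsq c.π)).2 ?_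
      refine (ModuleCat.epi_iff_surjective _).2 ((FlatComplex.homologyMap_surjective_iff _).2
        fun z hz => ?_)
      change K.X (j + 1) at z
      obtain ⟨p, hp, hdp, w, hw⟩ := h.2 j hj z hz
      exact ⟨(⟨p, hp⟩ : c.sub (j + 1)),
        Subtype.ext ((c.coe_F_d (⟨p, hp⟩ : c.sub (j + 1))).trans hdp), w, hw⟩
    · intro hj'
      rw [← ModuleCat.mono_iff_injective]
      refine ((MorphismProperty.monomorphisms _).arrow_mk_iso_iff (hsq c.π)).2 ?_
      refine (ModuleCat.mono_iff_injective _).2 ((FlatComplex.homologyMap_injective_iff _).2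
        fun x hx hw => ?_)
      change c.sub (j + 1) at x
      have hdx : dMap K _ (j + 1) x.1 = 0 := (c.coe_F_d x).symm.trans (congrArg Subtype.val hx)
      obtain ⟨q, hq, hdq⟩ := h.1 j hj' x.1 x.2 hdx hw
      exact ⟨(⟨q, hq⟩ : c.sub j),
        Subtype.ext (hdq.symm.trans (c.coe_F_d (⟨q, hq⟩ : c.sub j)).symm)⟩
  rw [isoAbove_Q_map_iff_homologyMap]
  refine ⟨fun i hi => ?_, ?_⟩
  · obtain ⟨j, rfl⟩ : ∃ j, j + 1 = i := ⟨i - 1, by ring⟩
    exact (ConcreteCategory.isIso_iff_bijective _).2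
      ⟨(key j (by omega)).2 (by omega), (key j (by omega)).1⟩
  · obtain ⟨j, rfl⟩ : ∃ j, j + 1 = n := ⟨n - 1, by ring⟩
    exact (ModuleCat.epi_iff_surjective _).2 (key j le_rfl).1

end Cells

/-- The hypothesis: truncated cones have finitely generated top homology. -/
def ConeFinite (K : DRing.Cx A) (b : ℤ) : Prop :=
  ∀ (n : ℤ) (F : DRing.Cx A) (f : F ⟶ K), n ≤ b → DRing.VanishesOutside F (n + 1) b →
    DRing.TermwiseFiniteFree F → (∀ i, n < i → (mappingCone f).ExactAt i) →
    Module.Finite A ((mappingCone f).homology n)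

/-- A cell with prescribed boundary and value. -/
lemma exists_cell {S : ℤ → Prop} {n : ℤ} (hn : S n) (x : GC K S (n + 1) →₀ A)
    (hx : dMap K S (n + 1) x = 0) (y : K.X n) (hy : K.d n (n + 1) y = valMap K S (n + 1) x) :
    ∃ g : GC K S n, dG g.1 g.2 = x ∧ val g.1 = y := by
  let e := x.support.equivFin.symm
  have hx' : ∑ i, Finsupp.single (e i : GC K S (n + 1)) (x (e i)) = x := by
    refine (Fintype.sum_equiv e _ (fun g => Finsupp.single g.1 (x g.1)) fun i => rfl).trans ?_
    rw [Finset.univ_eq_attach, Finset.sum_attach _ (fun g => Finsupp.single g (x g))]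
    exact Finsupp.sum_single x
  have hd : ∑ i, x (e i) • dRaw (e i).1.1 = 0 := by
    have := congrArg (forgetG (K := K) (S := S) (n + 1 + 1)) hx
    rw [← hx', map_zero] at this
    simpa [forgetG_dG] using this
  have hy' : K.d n (n + 1) y = ∑ i, x (e i) • val (e i).1.1 := by
    rw [hy]
    conv_lhs => rw [← hx']
    simp
  exact ⟨⟨_, Good.kill _ (fun i => x (e i)) (fun i => (e i).1.1) y hn (fun i => (e i).1.2) hd hy'⟩,
    hx', rfl⟩

open Classical in
/-- One step of the construction. -/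
theorem exists_step_at (c : Cells K b) (n : ℤ) (hn : n ≤ b)
    (H : ∀ (F : DRing.Cx A) (f : F ⟶ K), DRing.VanishesOutside F (n + 1) b → DRing.TermwiseFiniteFree F →
      (∀ i, n < i → (mappingCone f).ExactAt i) → Module.Finite A ((mappingCone f).homology n))
    (h0 : ∀ i, i ≤ n → c.T i = ∅) (hc : c.OK (n + 1)) :
    ∃ c' : Cells K b, (∀ i, i < n → c'.T i = ∅) ∧ (∀ i, i ≠ n → c'.T i = c.T i) ∧ c'.OK n := by
  have hex := (isoAbove_Q_map_iff (n + 1) c.π).1 (c.isoAbove_π hc)
  haveI : Module.Finite A ((mappingCone c.π).homology n) := by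
    refine H c.F c.π (fun i hi => ?_) c.finiteFree (fun i hi => hex i (by omega))
    rcases hi with hi | hi
    · exact c.isZero_X (h0 i (by omega))
    · exact c.vanishesAbove i hi
  let S := (mappingCone c.π).sc' (n - 1) n (n + 1)
  haveI : Module.Finite A ((mappingCone c.π).sc n).homology := ‹_›
  haveI : Module.Finite A S.homology :=
    Module.Finite.equiv (ShortComplex.homologyMapIso
      ((mappingCone c.π).isoSc' (n - 1) n (n + 1) (by simp) (by simp))).toLinearEquiv
  obtain ⟨s, hs, hgen⟩ := exists_cycle_generators S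
  -- components
  let x : S.X₂ →ₗ[A] (GCb K b (n + 1) →₀ A) :=
    (c.sub (n + 1)).subtype.comp (cfst c.π n (n + 1) rfl)
  let y : S.X₂ →ₗ[A] K.X n := csnd c.π n
  have hcyc : ∀ e, S.g e = 0 → dMap K _ (n + 1) (x e) = 0 ∧
      valMap K _ (n + 1) (x e) + K.d n (n + 1) (y e) = 0 := fun e he => by
    obtain ⟨h1, h2⟩ := (cone_d_eq_zero_iff c.π n (n + 1) rfl e).1 he
    exact ⟨(c.coe_F_d _).symm.trans (congrArg Subtype.val h1), h2⟩
  have hcell : ∀ e : s, ∃ g : GCb K b n, dG g.1 g.2 = x e.1 ∧ val g.1 = -(y e.1) := fun e => by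
    obtain ⟨h1, h2⟩ := hcyc e.1 (hs e.1 e.2)
    refine exists_cell (S := fun i => i ≤ b) hn _ h1 _ ?_
    rw [map_neg]
    exact (eq_neg_of_add_eq_zero_left h2).symm
  choose ζ hζd hζv using hcell
  let Tn : Finset (GCb K b n) := Finset.univ.image ζ
  let T' : ∀ i, Finset (GCb K b i) := Function.update c.T n Tn
  have hT'n : T' n = Tn := Function.update_self n Tn c.T
  have hT'ne : ∀ i, i ≠ n → T' i = c.T i := fun i hi => Function.update_of_ne hi Tn c.T
  have hclosed : ∀ i, ∀ g ∈ T' i,
      dG g.1 g.2 ∈ Finsupp.supported A A (T' (i + 1) : Set (GCb K b (i + 1))) := by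
    intro i g hg
    by_cases hi : i = n
    · subst hi
      rw [hT'ne (i + 1) (by omega)]
      rw [hT'n] at hg
      obtain ⟨e, -, rfl⟩ := Finset.mem_image.1 hg
      rw [hζd e]
      exact (cfst c.π i (i + 1) rfl e.1).2
    · rw [hT'ne i hi] at hg
      by_cases hi' : i + 1 = n
      · rw [h0 i (by omega)] at hg
        simp at hg
      · rw [hT'ne (i + 1) hi']
        exact c.closed i g hg
  let c' : Cells K b := ⟨T', hclosed⟩
  refine ⟨c', fun i hi => (hT'ne i (by omega)).trans (h0 i (by omega)), hT'ne, ?_⟩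
  have hsub : ∀ i, i ≠ n → c'.sub i = c.sub i := fun i hi => by
    show Finsupp.supported A A (T' i : Set (GCb K b i)) = _
    rw [hT'ne i hi]
  have hsubn : ∀ v ∈ Submodule.span A (s : Set S.X₂),
      ∃ p ∈ c'.sub n, dMap K _ n p = x v ∧ valMap K _ n p = -(y v) := by
    intro v hv
    induction hv using Submodule.span_induction with
    | mem v hv =>
      refine ⟨Finsupp.single (ζ ⟨v, hv⟩) 1, Finsupp.single_mem_supported A 1 ?_, ?_, ?_⟩
      · show ζ ⟨v, hv⟩ ∈ (T' n : Set (GCb K b n))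
        rw [hT'n]
        exact Finset.mem_coe.2 (Finset.mem_image.2 ⟨_, Finset.mem_univ _, rfl⟩)
      · rw [dMap_single, one_smul, hζd]
      · rw [valMap_single, one_smul, hζv]
    | zero => exact ⟨0, Submodule.zero_mem _, by simp only [map_zero],
        by simp only [map_zero, neg_zero]⟩
    | add v w _ _ hv hw =>
      obtain ⟨p, hp, hp1, hp2⟩ := hv
      obtain ⟨q, hq, hq1, hq2⟩ := hw
      exact ⟨p + q, Submodule.add_mem _ hp hq, by simp only [map_add, hp1, hq1],
        by simp only [map_add, hp2, hq2, neg_add]⟩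
    | smul r v _ hv =>
      obtain ⟨p, hp, hp1, hp2⟩ := hv
      exact ⟨r • p, Submodule.smul_mem _ r hp, by simp only [map_smul, hp1],
        by simp only [map_smul, hp2, smul_neg]⟩
  have hFn : ∀ e : (c.F).X n, e = 0 := fun e => by
    haveI := ModuleCat.subsingleton_of_isZero (c.isZero_X (h0 n le_rfl))
    exact Subsingleton.elim _ _
  -- every cycle of the cone agrees with the image of a combination of cells up to a boundary
  have hmain : ∀ (x₀ : GCb K b (n + 1) →₀ A), x₀ ∈ c.sub (n + 1) → ∀ y₀ : K.X n,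
      dMap K _ (n + 1) x₀ = 0 → valMap K _ (n + 1) x₀ + K.d n (n + 1) y₀ = 0 →
      ∃ p ∈ c'.sub n, dMap K _ n p = x₀ ∧ ∃ w, -(valMap K _ n p) - y₀ = K.d (n - 1) n w := by
    intro x₀ hx₀ y₀ h1 h2
    let e₀ : (mappingCone c.π).X n := cmk c.π n (n + 1) rfl (⟨x₀, hx₀⟩ : c.sub (n + 1)) y₀
    have hf : cfst c.π n (n + 1) rfl e₀ = (⟨x₀, hx₀⟩ : c.sub (n + 1)) := cfst_cmk _ _ _ _ _ _
    have he₀ : S.g e₀ = 0 := by
      refine (cone_d_eq_zero_iff c.π n (n + 1) rfl e₀).2 ⟨?_, ?_⟩
      · rw [hf]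
        exact Subtype.ext ((c.coe_F_d (⟨x₀, hx₀⟩ : c.sub (n + 1))).trans h1)
      · rw [hf, csnd_cmk]
        exact h2
    obtain ⟨v, hv, w, hw⟩ := hgen e₀ he₀
    change (mappingCone c.π).X (n - 1) at w
    change (mappingCone c.π).X n at v
    have hw' : e₀ - v = (mappingCone c.π).d (n - 1) n w := hw
    obtain ⟨p, hp, hp1, hp2⟩ := hsubn v hv
    have hv1 : cfst c.π n (n + 1) rfl v = (⟨x₀, hx₀⟩ : c.sub (n + 1)) := by
      have := congrArg (cfst c.π n (n + 1) rfl) hw'
      rw [map_sub, hf] at this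
      refine (sub_eq_zero.1 (this.trans ?_)).symm
      refine (cfst_d c.π (n - 1) n (n + 1) (by omega) rfl w).trans ?_
      rw [hFn (cfst c.π (n - 1) n _ w), map_zero, neg_zero]
    refine ⟨p, hp, hp1.trans (congrArg Subtype.val hv1), -(csnd c.π (n - 1) w), ?_⟩
    have h3 : y₀ - y v = K.d (n - 1) n (csnd c.π (n - 1) w) := by
      have := congrArg (csnd c.π n) hw'
      rw [map_sub] at this
      refine ((congrArg (· - y v) (csnd_cmk c.π n (n + 1) rfl _ y₀)).symm.trans this).trans ?_
      refine (csnd_d c.π (n - 1) n (by omega) w).trans ?_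
      rw [hFn (cfst c.π (n - 1) n _ w), map_zero, zero_add]
    rw [hp2, map_neg, ← h3, neg_neg, neg_sub]
  refine ⟨?_, ?_⟩
  · intro j hj p hp hdp hw
    rw [hsub (j + 1) (by omega)] at hp
    by_cases hjn : j = n
    · subst hjn
      obtain ⟨w, hw⟩ := hw
      obtain ⟨q, hq, hq1, -⟩ := hmain p hp (-w) hdp (by rw [hw, map_neg, add_neg_cancel])
      exact ⟨q, hq, hq1⟩
    · obtain ⟨q, hq, hq'⟩ := hc.1 j (by omega) p hp hdp hw
      exact ⟨q, by rw [hsub j hjn]; exact hq, hq'⟩
  · intro j hj z hz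
    by_cases hjn : j + 1 = n
    · subst hjn
      obtain ⟨p, hp, hdp, w, hw⟩ := hmain 0 (Submodule.zero_mem _) z (map_zero _) (by
        rw [map_zero, zero_add]; exact hz)
      refine ⟨-p, Submodule.neg_mem _ hp, by rw [map_neg, hdp, neg_zero], ?_⟩
      have e : ∀ i, i = j → ∀ w : K.X i, ∃ w' : K.X j, K.d i (j + 1) w = K.d j (j + 1) w' := by
        intro i hi w
        cases hi
        exact ⟨w, rfl⟩
      obtain ⟨w', hw'⟩ := e _ (by omega) w
      exact ⟨w', by rw [map_neg, hw, hw']⟩
    · obtain ⟨p, hp, h1, h2⟩ := hc.2 j (by omega) z hz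
      exact ⟨p, by rw [hsub (j + 1) hjn]; exact hp, h1, h2⟩

/-- One step of the construction, from the hypothesis in all degrees. -/
theorem exists_step (H : ConeFinite K b) (c : Cells K b) (n : ℤ) (hn : n ≤ b)
    (h0 : ∀ i, i ≤ n → c.T i = ∅) (hc : c.OK (n + 1)) :
    ∃ c' : Cells K b, (∀ i, i < n → c'.T i = ∅) ∧ (∀ i, i ≠ n → c'.T i = c.T i) ∧ c'.OK n :=
  exists_step_at c n hn (fun F f => H n F f hn) h0 hc

/-- The empty set of cells. -/
noncomputable def Cells.empty : Cells K b := ⟨fun _ => ∅, by simp⟩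

lemma Cells.empty_ok (hK : ∀ i, b < i → K.ExactAt i) : (Cells.empty : Cells K b).OK (b + 1) := by
  constructor
  · intro j _ p hp _ _
    refine ⟨0, Submodule.zero_mem _, ?_⟩
    simp only [Cells.sub, Cells.empty, Finset.coe_empty, Finsupp.supported_empty,
      Submodule.mem_bot] at hp
    rw [map_zero, hp]
  · intro j hj z hz
    obtain ⟨w, hw⟩ := exists_of_exactAt (hK (j + 1) (by omega)) j rfl z hz
    exact ⟨0, Submodule.zero_mem _, map_zero _, -w, by rw [map_zero, map_neg, hw, zero_sub]⟩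

/-- Finitely generated cones down to degree `m` give `m`-pseudo-coherence. -/
theorem isPseudoCoherent_of_coneFinite {m : ℤ} (hK : ∀ i, b < i → K.ExactAt i) (hmb : m ≤ b + 1)
    (H : ∀ (n : ℤ) (F : DRing.Cx A) (f : F ⟶ K), m ≤ n → n ≤ b → DRing.VanishesOutside F (n + 1) b →
      DRing.TermwiseFiniteFree F → (∀ i, n < i → (mappingCone f).ExactAt i) →
      Module.Finite A ((mappingCone f).homology n)) :
    DRing.IsPseudoCoherent A m (DRing.toD K) := by
  have key : ∀ k : ℕ, (k : ℤ) ≤ b + 1 - m →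
      ∃ c : Cells K b, (∀ i, i < b + 1 - k → c.T i = ∅) ∧ c.OK (b + 1 - k) := by
    intro k
    induction k with
    | zero => exact fun _ => ⟨Cells.empty, fun _ _ => rfl, by simpa using Cells.empty_ok hK⟩
    | succ k ih =>
      intro hk
      obtain ⟨c, hc1, hc2⟩ := ih (by omega)
      have e : b + 1 - ((k + 1 : ℕ) : ℤ) = b - k := by push_cast; ring
      obtain ⟨c', h1, -, h3⟩ := exists_step_at c (b - k) (by omega)
        (fun F f => H (b - k) F f (by omega) (by omega)) (fun i hi => hc1 i (by omega))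
        (by rwa [show b - (k : ℤ) + 1 = b + 1 - k by ring])
      exact ⟨c', fun i hi => h1 i (by omega), by rw [e]; exact h3⟩
  obtain ⟨c, hc1, hc2⟩ := key (b + 1 - m).toNat (by omega)
  rw [show b + 1 - ((b + 1 - m).toNat : ℤ) = m by omega] at hc1 hc2
  refine ⟨c.F, m, b, DerivedCategory.Q.map c.π, fun i hi => ?_, c.finiteFree, c.isoAbove_π hc2⟩
  rcases hi with hi | hi
  · exact c.isZero_X (hc1 i hi)
  · exact c.vanishesAbove i hi

open Classical in
/-- A bounded above finite free resolution. -/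
theorem exists_finiteFree_resolution (hK : ∀ i, b < i → K.ExactAt i) (H : ConeFinite K b) :
    ∃ (F : DRing.Cx A) (π : F ⟶ K), DRing.VanishesAbove F b ∧ DRing.TermwiseFiniteFree F ∧
      IsIso (DerivedCategory.Q.map π) := by
  let P : ℕ → Cells K b → Prop := fun k c =>
    (∀ i, i < b + 1 - k → c.T i = ∅) ∧ c.OK (b + 1 - k)
  have h0 : P 0 Cells.empty := ⟨fun _ _ => rfl, by simpa using Cells.empty_ok hK⟩
  have hstep : ∀ k (c : {c // P k c}), ∃ c' : {c // P (k + 1) c},
      ∀ i, b + 1 - k ≤ i → c'.1.T i = c.1.T i := by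
    intro k ⟨c, hc1, hc2⟩
    have e : b + 1 - ((k + 1 : ℕ) : ℤ) = b - k := by push_cast; ring
    obtain ⟨c', h1, h2, h3⟩ := exists_step H c (b - k) (by omega)
      (fun i hi => hc1 i (by omega)) (by rwa [show b - (k : ℤ) + 1 = b + 1 - k by ring])
    exact ⟨⟨c', fun i hi => h1 i (by omega), by rw [e]; exact h3⟩, fun i hi => h2 i (by omega)⟩
  choose next hnext using hstep
  let seq : ∀ k, {c // P k c} := fun k => Nat.rec ⟨Cells.empty, h0⟩ next k
  have hstab : ∀ (k l : ℕ) (i : ℤ), k ≤ l → b + 1 - k ≤ i → (seq l).1.T i = (seq k).1.T i := by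
    intro k l i hkl hi
    induction l, hkl using Nat.le_induction with
    | base => rfl
    | succ l hkl ih => exact (hnext l (seq l) i (by omega)).trans ih
  let N : ℤ → ℕ := fun i => (b + 1 - i).toNat
  have hle : ∀ i, b + 1 - (N i : ℤ) ≤ i := fun i => by simp only [N]; omega
  have hN : ∀ (k : ℕ) (i : ℤ), b + 1 - k ≤ i → (seq (N i)).1.T i = (seq k).1.T i := fun k i hi =>
    (hstab (N i) k i (by simp only [N]; omega) (hle i)).symm
  let c : Cells K b := ⟨fun i => (seq (N i)).1.T i, fun i g hg => by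
    have := (seq (N i)).1.closed i g hg
    have := hle i
    rwa [hN (N i) (i + 1) (by omega)]⟩
  have hc : ∀ n, c.OK n := by
    intro n
    constructor
    · intro j hj p hp hdp hw
      have := hle j
      have e := hN (N j) (j + 1) (by omega)
      obtain ⟨q, hq, hq'⟩ := (seq (N j)).2.2.1 j (by omega) p (by
        show p ∈ Finsupp.supported A A ((seq (N j)).1.T (j + 1) : Set (GCb K b (j + 1)))
        rw [← e]; exact hp) hdp hw
      exact ⟨q, hq, hq'⟩
    · intro j hj z hz
      have := hle (j + 1)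
      exact (seq (N (j + 1))).2.2.2 j (by omega) z hz
  refine ⟨c.F, c.π, c.vanishesAbove, c.finiteFree, ?_⟩
  rw [DerivedCategory.isIso_iff]
  intro i
  exact (c.isoAbove_π (hc (i - 1))).1 i (by omega)

end Groth.Agent.DRingKProj
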